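import Cfsg.Agent.Char.Gen
import Cfsg.Prelude.Def_ParabolicCharacters

/-!
Permutation characters on cosets and their inner products.
-/

set_option autoImplicit false

namespace Cfsg.Agent.GLFlags

open scoped Classical ComplexConjugate

universe u

variable {G : Type u} [Group G] [Fintype G]

theorem fixedPointCharacter_eq_indFun (H : Subgroup G) :
    fixedPointCharacter H = indFun H (fun _ => 1) := by
  funext g
  rw [Char.indFun_apply]
  have hH : (Nat.card H : ℂ) ≠ 0 := Nat.cast_ne_zero.2 Nat.card_pos.ne'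
  rw [eq_inv_mul_iff_mul_eq₀ hH]
  have h1 : ∀ x : G, extendByZero H (fun _ => (1 : ℂ)) (x⁻¹ * g * x) = if x⁻¹ * g * x ∈ H then 1 else 0 := fun x => by
    by_cases hx : x⁻¹ * g * x ∈ H
    · rw [if_pos hx]
      exact Char.extendByZero_coe H (fun _ => (1 : ℂ)) ⟨_, hx⟩
    · rw [if_neg hx, Char.extendByZero_of_not_mem H _ hx]
  simp only [h1, Finset.sum_boole, fixedPointCharacter, ← Nat.cast_mul]
  congr 1
  have e : {x : G // x⁻¹ * g * x ∈ H} ≃ (QuotientGroup.mk ⁻¹' (MulAction.fixedBy (G ⧸ H) g) : Set G) :=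
    Equiv.subtypeEquivRight fun x => by
      rw [Set.mem_preimage, MulAction.mem_fixedBy, MulAction.Quotient.smul_mk, eq_comm (a := QuotientGroup.mk _),
        QuotientGroup.eq, smul_eq_mul, mul_assoc]
  rw [← Nat.card_prod, ← Fintype.card_subtype, ← Nat.card_eq_fintype_card]
  exact (Nat.card_congr (e.trans (QuotientGroup.preimageMkEquivSubgroupProdSet H _))).symm

theorem isCharacter_fixedPointCharacter (H : Subgroup G) : IsCharacter G (fixedPointCharacter H) := by
  rw [fixedPointCharacter_eq_indFun]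
  refine Char.isCharacter_indFun H ?_
  simpa using Char.isCharacter_hom (1 : H →* ℂˣ)

omit [Fintype G] in
theorem conj_fixedPointCharacter (H : Subgroup G) (g : G) :
    conj (fixedPointCharacter H g) = fixedPointCharacter H g := Complex.conj_natCast _

theorem sum_fixed_mul_fixed (H K : Subgroup G) :
    ∑ g : G, fixedPointCharacter H g * fixedPointCharacter K g =
      (Nat.card (MulAction.orbitRel.Quotient G ((G ⧸ H) × (G ⧸ K))) : ℂ) * Nat.card G := by
  have h := MulAction.sum_card_fixedBy_eq_card_orbits_mul_card_group G ((G ⧸ H) × (G ⧸ K))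
  simp only [← Nat.card_eq_fintype_card] at h
  rw [← Nat.cast_mul]
  refine Eq.trans ?_ (congrArg (Nat.cast : ℕ → ℂ) h)
  push_cast
  refine Finset.sum_congr rfl fun g _ => ?_
  rw [fixedPointCharacter, fixedPointCharacter, ← Nat.cast_mul, ← Nat.card_prod]
  congr 1
  exact Nat.card_congr
    ((Equiv.Set.prod _ _).symm.trans (Equiv.setCongr (by ext x; simp [Prod.ext_iff])))

theorem classInner_fixedPointCharacter (H K : Subgroup G) :
    classInner (fixedPointCharacter H) (fixedPointCharacter K) =
      (Nat.card (MulAction.orbitRel.Quotient G ((G ⧸ H) × (G ⧸ K))) : ℂ) := by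
  rw [classInner]
  simp only [conj_fixedPointCharacter]
  have hG : (Nat.card G : ℂ) ≠ 0 := Nat.cast_ne_zero.2 Nat.card_pos.ne'
  rw [sum_fixed_mul_fixed]
  field_simp

end Cfsg.Agent.GLFlags
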