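import Cfsg.Agent.GLFlags.Comp

/-!
Unitriangular matrices, permutation matrices, and the decomposition `g = u * w * b`.
-/

set_option autoImplicit false

namespace Cfsg.Agent.GLFlags

open Matrix

variable {n : ℕ} {F : Type*} [Field F]

theorem mem_parabolicGL {μ : Fin n → ℕ} (g : GL (Fin n) F) :
    g ∈ parabolicGL n F μ ↔ ∀ i j, compLabel μ j < compLabel μ i → (g : Matrix (Fin n) (Fin n) F) i j = 0 := Iff.rfl

theorem upper_le_parabolicGL (μ : Fin n → ℕ) : upperTriangularGL n F ≤ parabolicGL n F μ := by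
  intro g hg i j hij
  refine hg (?_ : id j < id i)
  by_contra h
  exact absurd hij (not_lt.mpr (compLabel_mono μ (not_lt.mp h)))

theorem mul_apply_diag {A B : Matrix (Fin n) (Fin n) F} (hA : A.BlockTriangular id) (hB : B.BlockTriangular id)
    (i : Fin n) : (A * B) i i = A i i * B i i := by
  rw [Matrix.mul_apply]
  refine Finset.sum_eq_single i (fun k _ hk => ?_) (by simp)
  rcases lt_or_gt_of_ne hk with h | h
  · rw [hA (show id k < id i from h), zero_mul]
  · rw [hB (show id i < id k from h), mul_zero]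

/-- Upper unitriangular matrices. -/
def unitriangularGL (n : ℕ) (F : Type*) [Field F] : Subgroup (GL (Fin n) F) where
  carrier := {g | g ∈ upperTriangularGL n F ∧ ∀ i, (g : Matrix (Fin n) (Fin n) F) i i = 1}
  mul_mem' := fun {a b} ha hb => ⟨mul_mem ha.1 hb.1, fun i => by
    change ((a : Matrix (Fin n) (Fin n) F) * (b : Matrix (Fin n) (Fin n) F)) i i = 1
    rw [mul_apply_diag ha.1 hb.1, ha.2, hb.2, mul_one]⟩
  one_mem' := ⟨one_mem _, fun i => by simp⟩
  inv_mem' := fun {a} ha => ⟨inv_mem ha.1, fun i => by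
    have h := mul_apply_diag ha.1 (inv_mem ha.1) i
    rw [← Units.val_mul, mul_inv_cancel, Units.val_one, Matrix.one_apply_eq, ha.2, one_mul] at h
    exact h.symm⟩

theorem mem_unitriangularGL {g : GL (Fin n) F} :
    g ∈ unitriangularGL n F ↔ g ∈ upperTriangularGL n F ∧ ∀ i, (g : Matrix (Fin n) (Fin n) F) i i = 1 := Iff.rfl

/-- Permutation matrices as a homomorphism: `permGL σ` sends `e_j` to `e_(σ j)`. -/
def permGL (n : ℕ) (F : Type*) [Field F] : Equiv.Perm (Fin n) →* GL (Fin n) F :=
  MonoidHom.toHomUnits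
    { toFun := fun σ => Matrix.of fun i j => if i = σ j then (1 : F) else 0
      map_one' := by
        ext i j
        by_cases h : i = j <;> simp [Matrix.one_apply, h]
      map_mul' := fun σ τ => by
        ext i j
        rw [Matrix.mul_apply, Finset.sum_eq_single (τ j)]
        · by_cases h : i = σ (τ j) <;> simp [h]
        · intro k _ hk; simp [hk]
        · simp }

theorem permGL_apply (σ : Equiv.Perm (Fin n)) (i j : Fin n) :
    (permGL n F σ : Matrix (Fin n) (Fin n) F) i j = if i = σ j then 1 else 0 := rfl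

theorem mul_permGL_apply (A : Matrix (Fin n) (Fin n) F) (σ : Equiv.Perm (Fin n)) (i j : Fin n) :
    (A * (permGL n F σ : Matrix (Fin n) (Fin n) F)) i j = A i (σ j) := by
  rw [Matrix.mul_apply, Finset.sum_eq_single (σ j)]
  · simp [permGL_apply]
  · intro k _ hk; simp [permGL_apply, hk]
  · simp

theorem permGL_mul_apply (A : Matrix (Fin n) (Fin n) F) (σ : Equiv.Perm (Fin n)) (i j : Fin n) :
    ((permGL n F σ : Matrix (Fin n) (Fin n) F) * A) i j = A (σ.symm i) j := by
  rw [Matrix.mul_apply, Finset.sum_eq_single (σ.symm i)]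
  · simp [permGL_apply]
  · intro k _ hk
    rw [permGL_apply, if_neg, zero_mul]
    exact fun he => hk (by rw [he]; simp)
  · simp

theorem permGL_conj_apply (g : GL (Fin n) F) (σ : Equiv.Perm (Fin n)) (i j : Fin n) :
    (((permGL n F σ)⁻¹ * g * permGL n F σ : GL (Fin n) F) : Matrix (Fin n) (Fin n) F) i j =
      (g : Matrix (Fin n) (Fin n) F) (σ i) (σ j) := by
  rw [Units.val_mul, mul_permGL_apply, ← map_inv, Units.val_mul, permGL_mul_apply]
  simp [Equiv.Perm.inv_def]

theorem permGL_mem_parabolicGL {μ : Fin n → ℕ} {σ : Equiv.Perm (Fin n)} (h : σ ∈ youngSubgroup μ) :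
    permGL n F σ ∈ parabolicGL n F μ := by
  intro i j hij
  rw [permGL_apply, if_neg]
  rintro rfl
  rw [h j] at hij
  exact lt_irrefl _ hij

/-- The row index, plus one, of the lowest non-zero entry. -/
noncomputable def low (v : Fin n → F) : ℕ := by
  classical exact (Finset.univ.filter fun i => v i ≠ 0).sup fun i => i.val + 1

theorem le_low {v : Fin n → F} {i : Fin n} (h : v i ≠ 0) : i.val + 1 ≤ low v := by
  classical exact Finset.le_sup (f := fun i : Fin n => i.val + 1) (by simp [h])

theorem exists_low {v : Fin n → F} (hv : v ≠ 0) : ∃ i, v i ≠ 0 ∧ low v = i.val + 1 := by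
  classical
  have hne : (Finset.univ.filter fun i => v i ≠ 0).Nonempty := by
    obtain ⟨i, hi⟩ := Function.ne_iff.mp hv
    exact ⟨i, by simpa using hi⟩
  obtain ⟨i, hi, he⟩ := Finset.exists_mem_eq_sup _ hne fun i : Fin n => i.val + 1
  exact ⟨i, by simpa using hi, he⟩

/-- `g = u * w * b` with `u` upper unitriangular, `w` a permutation matrix, `b` upper triangular. -/
theorem exists_bruhat (g : GL (Fin n) F) :
    ∃ u ∈ unitriangularGL n F, ∃ (σ : Equiv.Perm (Fin n)), ∃ b ∈ upperTriangularGL n F,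
      g = u * permGL n F σ * b := by
  classical
  set A : Matrix (Fin n) (Fin n) F := (g : Matrix (Fin n) (Fin n) F) with hA
  have hinj : ∀ x : Fin n → F, A *ᵥ x = 0 → x = 0 := fun x hx => by
    have := congrArg (((g⁻¹ : GL (Fin n) F) : Matrix (Fin n) (Fin n) F) *ᵥ ·) hx
    simpa [hA, Matrix.mulVec_mulVec] using this
  let S : Fin n → Set (Fin n → F) := fun j => {x | x j = 1 ∧ ∀ i, j < i → x i = 0}
  have hex : ∀ j, ∃ m, ∃ x ∈ S j, low (A *ᵥ x) = m := fun j =>
    ⟨_, Pi.single j 1, ⟨by simp, fun i hi => by simp [hi.ne']⟩, rfl⟩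
  have hmin : ∀ j, ∃ x ∈ S j, ∀ y ∈ S j, low (A *ᵥ x) ≤ low (A *ᵥ y) := fun j => by
    obtain ⟨x, hx, he⟩ := Nat.find_spec (hex j)
    exact ⟨x, hx, fun y hy => he.trans_le (Nat.find_min' (hex j) ⟨y, hy, rfl⟩)⟩
  choose x hxS hxmin using hmin
  have hne : ∀ j, A *ᵥ x j ≠ 0 := fun j h => by
    have := congrFun (hinj _ h) j
    rw [(hxS j).1] at this
    exact one_ne_zero this
  choose r hr hlow using fun j => exists_low (hne j)
  have hzero : ∀ j i, r j < i → (A *ᵥ x j) i = 0 := fun j i hi => by
    by_contra hc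
    have := le_low hc
    rw [hlow] at this
    rw [Fin.lt_def] at hi
    omega
  have hrinj : Function.Injective r := by
    have key : ∀ i j, i < j → r i ≠ r j := by
      intro i j hij he
      let c := (A *ᵥ x j) (r j) / (A *ᵥ x i) (r i)
      let y := x j - c • x i
      have hy : y ∈ S j := ⟨by simp [y, (hxS j).1, (hxS i).2 j hij],
        fun k hk => by simp [y, (hxS j).2 k hk, (hxS i).2 k (hij.trans hk)]⟩
      have hyne : A *ᵥ y ≠ 0 := fun h => by
        have h1 := congrFun (hinj _ h) j
        rw [hy.1] at h1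
        exact one_ne_zero h1
      obtain ⟨k, hk, hklow⟩ := exists_low hyne
      have hle := hxmin j y hy
      rw [hlow, hklow] at hle
      apply hk
      simp only [y, Matrix.mulVec_sub, Matrix.mulVec_smul, Pi.sub_apply, Pi.smul_apply, smul_eq_mul, c]
      rcases eq_or_lt_of_le (show r j ≤ k from Fin.le_def.mpr (by omega)) with hk' | hk'
      · rw [← hk', ← he, div_mul_cancel₀ _ (hr i), sub_self]
      · rw [hzero j k hk', hzero i k (he ▸ hk'), mul_zero, sub_zero]
    intro i j h
    rcases lt_trichotomy i j with hlt | heq | hgt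
    · exact absurd h (key i j hlt)
    · exact heq
    · exact absurd h.symm (key j i hgt)
  let σ : Equiv.Perm (Fin n) := Equiv.ofBijective r hrinj.bijective_of_finite
  have hσ : ∀ j, σ j = r j := fun j => rfl
  let B : Matrix (Fin n) (Fin n) F := Matrix.of fun i j => ((A *ᵥ x j) (r j))⁻¹ * x j i
  have hBT : B.BlockTriangular id := fun i j hij => by
    simp [B, (hxS j).2 i hij]
  have hBdet : B.det ≠ 0 := by
    rw [Matrix.det_of_isUpperTriangular hBT, Finset.prod_ne_zero_iff]
    intro i _
    simp [B, (hxS i).1, hr i]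
  let b : GL (Fin n) F := Matrix.GeneralLinearGroup.mkOfDetNeZero B hBdet
  have hb : b ∈ upperTriangularGL n F := hBT
  have hgb : ∀ i j, (A * B) i j = ((A *ᵥ x j) (r j))⁻¹ * (A *ᵥ x j) i := fun i j => by
    simp only [Matrix.mul_apply, B, Matrix.of_apply, Matrix.mulVec, dotProduct, Finset.mul_sum]
    exact Finset.sum_congr rfl fun k _ => by ring
  let u : GL (Fin n) F := g * b * (permGL n F σ)⁻¹
  have huval : ∀ i j, (u : Matrix (Fin n) (Fin n) F) i j = (A * B) i (σ.symm j) := fun i j => by
    simp only [u, ← map_inv, Units.val_mul, mul_permGL_apply, Equiv.Perm.inv_def]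
    rfl
  refine ⟨u, ⟨fun i j (hij : j < i) => ?_, fun i => ?_⟩, σ, b⁻¹, inv_mem hb, by simp [u]⟩
  · rw [huval, hgb, hzero _ i (by rw [← hσ]; simpa using hij), mul_zero]
  · rw [huval, hgb]
    have : r (σ.symm i) = i := by rw [← hσ]; simp
    have h2 := hr (σ.symm i)
    rw [this] at h2 ⊢
    exact inv_mul_cancel₀ h2

end Cfsg.Agent.GLFlags
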