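import Cfsg.Agent.GLFlags.DoubleCosets

/-!
The Cauchy determinant and the norm of an alternating sum of margin counts.
-/

set_option autoImplicit false

namespace Cfsg.Agent.GLFlags

open Polynomial Matrix
open scoped Classical

section Det

variable {R : Type*} [CommRing R] {n : ℕ}

theorem det_cauchy_numerator (a b : Fin n → R) :
    (Matrix.of fun i j => ∏ k ∈ Finset.univ.erase j, (1 - a i * b k)).det =
      (Matrix.vandermonde a).det * (Matrix.vandermonde b).det := by
  rcases subsingleton_or_nontrivial R with hR | hR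
  · exact Subsingleton.elim _ _
  let E : R[X] := ∏ k, (1 - C (b k) * X)
  let p : Fin n → R[X] := fun j => ∏ k ∈ Finset.univ.erase j, (1 - C (b k) * X)
  have hE0 : E.coeff 0 = 1 := by
    simp [E, coeff_zero_eq_eval_zero, eval_prod]
  have hrec : ∀ j r, (p j).coeff r = ∑ s ∈ Finset.range (r + 1), E.coeff (r - s) * b j ^ s := by
    intro j
    have hEp : E = (1 - C (b j) * X) * p j :=
      (Finset.mul_prod_erase _ (fun k => 1 - C (b k) * X) (Finset.mem_univ j)).symm
    intro r
    induction r with
    | zero =>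
      rw [zero_add, Finset.sum_range_one, Nat.sub_zero, pow_zero, mul_one, hEp]
      simp [mul_coeff_zero]
    | succ r ih =>
      have h1 : E.coeff (r + 1) = (p j).coeff (r + 1) - b j * (p j).coeff r := by
        rw [hEp, sub_mul, one_mul, coeff_sub, mul_assoc, coeff_C_mul, coeff_X_mul]
      rw [Finset.sum_range_succ', Nat.sub_zero, pow_zero, mul_one, h1, ih, Finset.mul_sum]
      have h2 : ∀ s, E.coeff (r + 1 - (s + 1)) * b j ^ (s + 1) = b j * (E.coeff (r - s) * b j ^ s) := fun s => by
        rw [Nat.succ_sub_succ, pow_succ]; ring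
      simp only [h2]
      abel
  have hdeg : ∀ j, (p j).natDegree < n := fun j => by
    refine lt_of_le_of_lt (natDegree_prod_le _ _) ?_
    refine lt_of_le_of_lt (Finset.sum_le_card_nsmul _ _ 1 fun k _ => ?_) ?_
    · refine (natDegree_sub_le _ _).trans (max_le (by simp) ((natDegree_C_mul_le _ _).trans natDegree_X_le))
    · rw [Finset.card_erase_of_mem (Finset.mem_univ j), Finset.card_univ, Fintype.card_fin, smul_eq_mul, mul_one]
      have := j.pos
      omega
  let L : Matrix (Fin n) (Fin n) R := Matrix.of fun r s => if s ≤ r then E.coeff (r.val - s.val) else 0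
  have hfac : (Matrix.of fun i j => ∏ k ∈ Finset.univ.erase j, (1 - a i * b k)) =
      Matrix.vandermonde a * (L * (Matrix.vandermonde b)ᵀ) := by
    ext i j
    have hev : (∏ k ∈ Finset.univ.erase j, (1 - a i * b k)) = (p j).eval (a i) := by
      simp only [p, eval_prod, eval_sub, eval_one, eval_mul, eval_C, eval_X]
      exact Finset.prod_congr rfl fun k _ => by ring
    rw [Matrix.of_apply, hev, eval_eq_sum_range' (hdeg j), Matrix.mul_apply,
      ← Fin.sum_univ_eq_sum_range (fun r => (p j).coeff r * a i ^ r)]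
    refine Finset.sum_congr rfl fun r _ => ?_
    rw [Matrix.vandermonde_apply, mul_comm ((p j).coeff _), hrec, Matrix.mul_apply]
    congr 1
    simp only [L, Matrix.of_apply, Matrix.transpose_apply, Matrix.vandermonde_apply, ite_mul, zero_mul, Fin.le_def]
    rw [Fin.sum_univ_eq_sum_range (fun s => if s ≤ r.val then E.coeff (r.val - s) * b j ^ s else 0) n]
    rw [← Finset.sum_filter]
    refine Finset.sum_congr ?_ fun _ _ => rfl
    ext s
    simp only [Finset.mem_range, Finset.mem_filter]
    have := r.isLt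
    omega
  rw [hfac, Matrix.det_mul, Matrix.det_mul, Matrix.det_transpose]
  have hL : L.det = 1 := by
    rw [Matrix.det_of_isLowerTriangular]
    · exact Finset.prod_eq_one fun r _ => by simp [L, hE0]
    · intro r s (hrs : r < s)
      simp [L, hrs]
  rw [hL, one_mul]

end Det

section Series

variable {σ : Type*}

/-- The geometric series of a monomial. -/
noncomputable def geom (v : σ →₀ ℕ) : MvPowerSeries σ ℤ := fun d => if ∃ m : ℕ, d = m • v then 1 else 0

theorem coeff_geom (v d : σ →₀ ℕ) :
    MvPowerSeries.coeff d (geom v) = if ∃ m : ℕ, d = m • v then 1 else 0 := rfl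

theorem one_sub_mul_geom (v : σ →₀ ℕ) (hv : v ≠ 0) : (1 - MvPowerSeries.monomial v 1) * geom v = 1 := by
  ext d
  rw [sub_mul, one_mul, map_sub, MvPowerSeries.coeff_monomial_mul, MvPowerSeries.coeff_one, coeff_geom, coeff_geom]
  by_cases hd : d = 0
  · subst hd
    rw [if_pos ⟨0, by simp⟩, if_neg (fun h => hv (le_antisymm h (zero_le))), if_pos rfl, sub_zero]
  rw [if_neg hd]
  by_cases h : ∃ m : ℕ, d = m • v
  · obtain ⟨m, rfl⟩ := h
    obtain ⟨m, rfl⟩ := Nat.exists_eq_succ_of_ne_zero (fun h0 : m = 0 => hd (by simp [h0]))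
    rw [Nat.succ_eq_add_one, if_pos ⟨m + 1, rfl⟩, add_smul, one_smul, if_pos le_add_self, one_mul,
      if_pos ⟨m, add_tsub_cancel_right _ _⟩, sub_self]
  · rw [if_neg h]
    split_ifs with h1 h2
    · obtain ⟨m, hm⟩ := h2
      exact absurd ⟨m + 1, by rw [add_smul, one_smul, ← hm, tsub_add_cancel_of_le h1]⟩ h
    · simp
    · simp

theorem coeff_prod_geom {ι : Type*} [Fintype ι] (v : ι → σ →₀ ℕ) (hv : ∀ a, v a ≠ 0) (d : σ →₀ ℕ) :
    MvPowerSeries.coeff d (∏ a, geom (v a)) = Nat.card {m : ι → ℕ // ∑ a, m a • v a = d} := by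
  rw [MvPowerSeries.coeff_prod]
  simp only [coeff_geom, Finset.prod_boole, Finset.mem_univ, forall_true_left, Finset.sum_boole]
  congr 1
  rw [← Nat.card_eq_finsetCard]
  have hinj : ∀ a, Function.Injective fun m : ℕ => m • v a := fun a m m' h => by
    obtain ⟨x, hx⟩ := Finsupp.ne_iff.mp (hv a)
    have := DFunLike.congr_fun h x
    simp only [Finsupp.smul_apply, smul_eq_mul] at this
    exact Nat.eq_of_mul_eq_mul_right (Nat.pos_of_ne_zero hx) this
  symm
  refine Nat.card_congr (Equiv.ofBijective
    (fun m => ⟨Finsupp.equivFunOnFinite.symm fun a => m.1 a • v a, ?_⟩) ⟨?_, ?_⟩)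
  · simp only [Finset.mem_filter, Finset.mem_finsuppAntidiag, Finsupp.equivFunOnFinite_symm_apply_apply]
    exact ⟨⟨by simpa using m.2, Finset.subset_univ _⟩, fun a => ⟨m.1 a, rfl⟩⟩
  · intro m m' h
    refine Subtype.ext (funext fun a => hinj a ?_)
    have := DFunLike.congr_fun (congrArg Subtype.val h) a
    simpa using this
  · rintro ⟨l, hl⟩
    simp only [Finset.mem_filter, Finset.mem_finsuppAntidiag] at hl
    choose m hm using hl.2
    refine ⟨⟨m, ?_⟩, Subtype.ext (Finsupp.ext fun a => by simp [← hm a])⟩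
    rw [← hl.1.1]
    simp [← hm]

end Series

section Norm

variable {n : ℕ}

/-- An exponent vector in two sets of variables. -/
noncomputable def vec (a b : Fin n → ℕ) : (Fin n ⊕ Fin n) →₀ ℕ :=
  Finsupp.equivFunOnFinite.symm (Sum.elim a b)

@[simp] theorem vec_inl (a b : Fin n → ℕ) (i : Fin n) : vec a b (.inl i) = a i := by simp [vec]
@[simp] theorem vec_inr (a b : Fin n → ℕ) (i : Fin n) : vec a b (.inr i) = b i := by simp [vec]

theorem vec_le_iff {a b a' b' : Fin n → ℕ} : vec a b ≤ vec a' b' ↔ (∀ i, a i ≤ a' i) ∧ ∀ i, b i ≤ b' i := by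
  constructor
  · intro h; exact ⟨fun i => by simpa using h (.inl i), fun i => by simpa using h (.inr i)⟩
  · rintro ⟨h1, h2⟩ (i | i) <;> simp [h1, h2]

/-- The exponent of `x i * y j`. -/
noncomputable def edge (i j : Fin n) : (Fin n ⊕ Fin n) →₀ ℕ :=
  Finsupp.single (Sum.inl i) 1 + Finsupp.single (Sum.inr j) 1

theorem edge_ne_zero (i j : Fin n) : edge i j ≠ 0 := fun h => by
  have := DFunLike.congr_fun h (Sum.inl i)
  simp [edge] at this

theorem coeff_prod_geom_edge (a b : Fin n → ℕ) :
    MvPowerSeries.coeff (vec a b) (∏ p : Fin n × Fin n, geom (edge p.1 p.2)) = Nat.card (Margins a b) := by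
  rw [coeff_prod_geom (fun p : Fin n × Fin n => edge p.1 p.2) (fun p => edge_ne_zero p.1 p.2)]
  congr 1
  have h : ∀ m : Fin n × Fin n → ℕ, ∑ p, m p • edge p.1 p.2 = vec a b ↔
      (∀ i, ∑ j, m (i, j) = a i) ∧ ∀ j, ∑ i, m (i, j) = b j := fun m => by
    simp only [Finsupp.ext_iff, Sum.forall, Finsupp.coe_finset_sum, Finset.sum_apply, edge,
      Finsupp.smul_apply, Finsupp.add_apply, Finsupp.single_apply, vec_inl, vec_inr, Fintype.sum_prod_type]
    simp only [Sum.inl.injEq, Sum.inr.injEq, reduceCtorEq, if_false, add_zero, zero_add, smul_eq_mul,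
      mul_ite, mul_one, mul_zero]
    refine and_congr (forall_congr' fun i => ?_) (forall_congr' fun j => ?_)
    · simp [Finset.sum_ite_irrel]
    · simp
  exact Nat.card_congr
    { toFun := fun m => ⟨fun i j => m.1 (i, j), (h m.1).mp m.2⟩
      invFun := fun M => ⟨fun p => M.1 p.1 p.2, (h _).mpr M.2⟩
      left_inv := fun _ => rfl
      right_inv := fun _ => rfl }

theorem det_vandermonde_X (inc : Fin n → Fin n ⊕ Fin n) :
    (Matrix.vandermonde fun i => (MvPowerSeries.X (inc i) : MvPowerSeries (Fin n ⊕ Fin n) ℤ)).det =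
      ∑ κ : Equiv.Perm (Fin n), (Equiv.Perm.sign κ : ℤ) •
        MvPowerSeries.monomial (∑ i, Finsupp.single (inc i) (κ i).val) 1 := by
  rw [← Matrix.det_transpose, Matrix.det_apply']
  refine Finset.sum_congr rfl fun κ _ => ?_
  rw [zsmul_eq_mul]
  congr 1
  simp only [Matrix.transpose_apply, Matrix.vandermonde_apply, MvPowerSeries.X_pow_eq, MvPowerSeries.prod_monomial,
    Finset.prod_const_one]

theorem sum_single_vec (κ κ' : Fin n → ℕ) :
    ∑ i, Finsupp.single (Sum.inl i) (κ i) + ∑ i, Finsupp.single (Sum.inr i) (κ' i) = vec κ κ' := by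
  ext (i | i) <;> simp [Finsupp.single_apply]

/-- The alternating sum of margin counts of shifted compositions is `1`. -/
theorem alternant_norm (lam : Fin n → ℕ) (hinj : Function.Injective lam) :
    (∑ κ : Equiv.Perm (Fin n), ∑ κ' : Equiv.Perm (Fin n),
      if (∀ i, (κ i).val ≤ lam i) ∧ ∀ i, (κ' i).val ≤ lam i then
        (Equiv.Perm.sign κ : ℤ) * (Equiv.Perm.sign κ' : ℤ) *
          Nat.card (Margins (fun i => lam i - (κ i).val) (fun i => lam i - (κ' i).val))
      else 0) = 1 := by
  let a : Fin n → MvPowerSeries (Fin n ⊕ Fin n) ℤ := fun i => MvPowerSeries.X (Sum.inl i)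
  let b : Fin n → MvPowerSeries (Fin n ⊕ Fin n) ℤ := fun i => MvPowerSeries.X (Sum.inr i)
  have hab : ∀ i j, a i * b j = MvPowerSeries.monomial (edge i j) 1 := fun i j => by
    simp only [a, b, MvPowerSeries.X, edge]
    rw [MvPowerSeries.monomial_mul_monomial, mul_one]
  have hdet : (Matrix.vandermonde a).det * (Matrix.vandermonde b).det * ∏ p : Fin n × Fin n, geom (edge p.1 p.2)
      = (Matrix.of fun i j => geom (edge i j)).det := by
    rw [← det_cauchy_numerator a b, Fintype.prod_prod_type, mul_comm]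
    refine (Matrix.det_mul_column (fun i => ∏ k, geom (edge i k)) _).symm.trans ?_
    congr 1
    ext i j : 2
    simp only [Matrix.of_apply]
    rw [← Finset.mul_prod_erase _ (fun k => geom (edge i k)) (Finset.mem_univ j), mul_assoc, ← Finset.prod_mul_distrib,
      Finset.prod_eq_one, mul_one]
    intro k _
    rw [mul_comm, hab, one_sub_mul_geom _ (edge_ne_zero i k)]
  have h := congrArg (MvPowerSeries.coeff (vec lam lam)) hdet
  rw [show (Matrix.vandermonde a).det = _ from det_vandermonde_X Sum.inl,
    show (Matrix.vandermonde b).det = _ from det_vandermonde_X Sum.inr] at h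
  simp only [Finset.sum_mul, Finset.mul_sum, map_sum, smul_mul_assoc, mul_smul_comm, map_zsmul,
    MvPowerSeries.monomial_mul_monomial, mul_one, sum_single_vec, MvPowerSeries.coeff_monomial_mul, one_mul] at h
  have hr : MvPowerSeries.coeff (vec lam lam) (Matrix.of fun i j => geom (edge i j)).det = (1 : ℤ) := by
    rw [← Matrix.det_transpose, Matrix.det_apply, map_sum]
    have hterm : ∀ π : Equiv.Perm (Fin n),
        MvPowerSeries.coeff (vec lam lam) (Equiv.Perm.sign π • ∏ i, (Matrix.of fun i j => geom (edge i j))ᵀ (π i) i) =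
          if π = 1 then 1 else 0 := by
      intro π
      simp only [Matrix.transpose_apply, Matrix.of_apply, Units.smul_def, map_zsmul,
        coeff_prod_geom _ (fun i => edge_ne_zero i (π i))]
      have hm : ∀ m : Fin n → ℕ, ∑ i, m i • edge i (π i) = vec lam lam ↔
          (∀ i, m i = lam i) ∧ ∀ i, m i = lam (π i) := fun m => by
        simp only [Finsupp.ext_iff, Sum.forall, Finsupp.coe_finset_sum, Finset.sum_apply, edge,
          Finsupp.smul_apply, Finsupp.add_apply, Finsupp.single_apply, vec_inl, vec_inr]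
        simp only [Sum.inl.injEq, Sum.inr.injEq, reduceCtorEq, if_false, add_zero, zero_add, smul_eq_mul,
          mul_ite, mul_one, mul_zero, Finset.sum_ite_eq', Finset.mem_univ, if_true]
        refine and_congr Iff.rfl ?_
        constructor
        · intro h i
          rw [← h (π i)]
          simp [π.injective.eq_iff]
        · intro h j
          rw [Finset.sum_eq_single (π.symm j) (fun i _ hi => if_neg fun he => hi (by rw [← he]; simp)) (by simp)]
          simp [h]
      by_cases hπ : π = 1
      · subst hπ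
        rw [if_pos rfl]
        have : Nat.card {m : Fin n → ℕ // ∑ i, m i • edge i ((1 : Equiv.Perm (Fin n)) i) = vec lam lam} = 1 := by
          rw [Nat.card_eq_one_iff_unique]
          exact ⟨⟨fun x y => Subtype.ext (funext fun i => by rw [((hm x.1).mp x.2).1, ((hm y.1).mp y.2).1])⟩,
            ⟨⟨lam, (hm lam).mpr ⟨fun i => rfl, fun i => rfl⟩⟩⟩⟩
        simpa using this
      · rw [if_neg hπ]
        have : IsEmpty {m : Fin n → ℕ // ∑ i, m i • edge i (π i) = vec lam lam} :=
          ⟨fun m => hπ (Equiv.ext fun i => hinj (by rw [← ((hm m.1).mp m.2).2, ((hm m.1).mp m.2).1]; rfl))⟩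
        simp
    simp only [hterm]
    simp
  rw [hr] at h
  rw [← h]
  try rw [Finset.sum_comm]
  refine Finset.sum_congr rfl fun κ _ => ?_
  rw [Finset.smul_sum]
  refine Finset.sum_congr rfl fun κ' _ => ?_
  simp only [vec_le_iff]
  split_ifs with hc hc' hc'
  · rw [show vec lam lam - vec (fun i => (κ' i).val) (fun i => (κ i).val) =
        vec (fun i => lam i - (κ' i).val) (fun i => lam i - (κ i).val) from by ext (i | i) <;> simp,
      coeff_prod_geom_edge]
    simp only [smul_eq_mul]
    ring
  all_goals simp_all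

end Norm

end Cfsg.Agent.GLFlags
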