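import Cfsg.Prelude.Def_LinearParabolics
import Mathlib

/-!
Block labels of compositions.
-/

set_option autoImplicit false

namespace Cfsg.Agent.GLFlags

variable {n : ℕ}

/-- Partial sum of the first `m` parts. -/
def psum (μ : Fin n → ℕ) (m : ℕ) : ℕ := ∑ k ∈ Finset.univ.filter (fun k : Fin n => k.val < m), μ k

theorem psum_mono (μ : Fin n → ℕ) : Monotone (psum μ) := fun a b hab =>
  Finset.sum_le_sum_of_subset fun k hk => by
    simp only [Finset.mem_filter, Finset.mem_univ, true_and] at hk ⊢; omega

theorem psum_zero (μ : Fin n → ℕ) : psum μ 0 = 0 := by simp [psum]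

theorem psum_self (μ : Fin n → ℕ) : psum μ n = ∑ k, μ k := by simp [psum]

theorem psum_succ (μ : Fin n → ℕ) (j : Fin n) : psum μ (j + 1) = psum μ j + μ j := by
  have : Finset.univ.filter (fun k : Fin n => k.val < j + 1) =
      insert j (Finset.univ.filter (fun k : Fin n => k.val < j.val)) := by
    ext k
    simp only [Finset.mem_filter, Finset.mem_univ, true_and, Finset.mem_insert, Fin.ext_iff]
    omega
  rw [psum, this, Finset.sum_insert (by simp), psum, add_comm]

theorem compLabel_eq (μ : Fin n → ℕ) (i : Fin n) :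
    compLabel μ i = (Finset.univ.filter fun j : Fin n => psum μ (j + 1) ≤ i.val).card := by
  simp only [compLabel, psum, Nat.lt_succ_iff, Fin.le_def]

theorem psum_le_iff_lt_compLabel (μ : Fin n → ℕ) (i j : Fin n) :
    psum μ (j + 1) ≤ i.val ↔ j.val < compLabel μ i := by
  rw [compLabel_eq]
  constructor
  · intro h
    have hsub : Finset.Iic j ⊆ Finset.univ.filter fun k : Fin n => psum μ (k + 1) ≤ i.val := by
      intro k hk
      simp only [Finset.mem_Iic, Fin.le_def] at hk
      simp only [Finset.mem_filter, Finset.mem_univ, true_and]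
      exact (psum_mono μ (by omega)).trans h
    have := Finset.card_le_card hsub
    rw [Fin.card_Iic] at this
    omega
  · intro h
    by_contra hc
    have hsub : (Finset.univ.filter fun k : Fin n => psum μ (k + 1) ≤ i.val) ⊆ Finset.Iio j := by
      intro k hk
      simp only [Finset.mem_filter, Finset.mem_univ, true_and] at hk
      simp only [Finset.mem_Iio, Fin.lt_def]
      by_contra hkj
      exact hc ((psum_mono μ (by omega)).trans hk)
    have := Finset.card_le_card hsub
    rw [Fin.card_Iio] at this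
    omega

theorem compLabel_mono (μ : Fin n → ℕ) : Monotone (compLabel μ) := fun a b hab => by
  simp only [compLabel_eq]
  refine Finset.card_le_card fun j hj => ?_
  simp only [Finset.mem_filter, Finset.mem_univ, true_and] at hj ⊢
  exact hj.trans (Fin.le_def.mp hab)

theorem compLabel_lt {μ : Fin n → ℕ} (hμ : ∑ k, μ k = n) (i : Fin n) : compLabel μ i < n := by
  have hn : 0 < n := i.pos
  by_contra h
  have h1 := (psum_le_iff_lt_compLabel μ i ⟨n - 1, by omega⟩).mpr (by simp only; omega)
  simp only [Nat.sub_add_cancel hn, psum_self, hμ] at h1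
  omega

/-- The label as an element of `Fin n`. -/
def lab (μ : Fin n → ℕ) (hμ : ∑ k, μ k = n) (i : Fin n) : Fin n := ⟨compLabel μ i, compLabel_lt hμ i⟩

@[simp] theorem lab_val {μ : Fin n → ℕ} (hμ : ∑ k, μ k = n) (i : Fin n) : (lab μ hμ i).val = compLabel μ i := rfl

theorem lab_mono {μ : Fin n → ℕ} (hμ : ∑ k, μ k = n) : Monotone (lab μ hμ) := fun _ _ h =>
  Fin.le_def.mpr (compLabel_mono μ h)

theorem lab_eq_iff {μ : Fin n → ℕ} (hμ : ∑ k, μ k = n) (i j : Fin n) :
    lab μ hμ i = j ↔ psum μ j ≤ i.val ∧ i.val < psum μ (j + 1) := by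
  rw [Fin.ext_iff, lab_val]
  constructor
  · intro h
    constructor
    · rcases Nat.eq_zero_or_pos j.val with h0 | h0
      · simp [h0, psum_zero]
      · have := (psum_le_iff_lt_compLabel μ i ⟨j - 1, by omega⟩).mpr (by simp only; omega)
        simpa [Nat.sub_add_cancel h0] using this
    · by_contra hc
      have := (psum_le_iff_lt_compLabel μ i j).mp (by omega)
      omega
  · rintro ⟨h1, h2⟩
    have hnot : ¬ j.val < compLabel μ i := fun h => by
      have := (psum_le_iff_lt_compLabel μ i j).mpr h; omega
    rcases Nat.lt_or_ge (compLabel μ i) j.val with h | h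
    · have h' := (psum_le_iff_lt_compLabel μ i ⟨compLabel μ i, by omega⟩).mp
        ((psum_mono μ (by simp only; omega)).trans h1)
      simp only at h'
      omega
    · omega

theorem card_lab_fibre {μ : Fin n → ℕ} (hμ : ∑ k, μ k = n) (j : Fin n) :
    (Finset.univ.filter fun i => lab μ hμ i = j).card = μ j := by
  have hle : psum μ (j + 1) ≤ n := by
    have := psum_mono μ (show j.val + 1 ≤ n by omega)
    rwa [psum_self, hμ] at this
  have : (Finset.univ.filter fun i => lab μ hμ i = j).map Fin.valEmbedding =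
      Finset.Ico (psum μ j) (psum μ (j + 1)) := by
    ext x
    simp only [Finset.mem_map, Finset.mem_filter, Finset.mem_univ, true_and, Fin.valEmbedding_apply,
      lab_eq_iff, Finset.mem_Ico]
    exact ⟨fun ⟨i, hi, he⟩ => he ▸ hi, fun hx => ⟨⟨x, by omega⟩, hx, rfl⟩⟩
  rw [← Finset.card_map Fin.valEmbedding, this, Nat.card_Ico, psum_succ, Nat.add_sub_cancel_left]

/-- A map with prescribed fibre sizes is a label map composed with a permutation. -/
theorem exists_perm_lab {μ : Fin n → ℕ} (hμ : ∑ k, μ k = n) (L : Fin n → Fin n)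
    (hL : ∀ j, (Finset.univ.filter fun i => L i = j).card = μ j) :
    ∃ σ : Equiv.Perm (Fin n), ∀ i, L (σ i) = lab μ hμ i := by
  have hc : ∀ j, Fintype.card {i // lab μ hμ i = j} = Fintype.card {i // L i = j} := fun j => by
    rw [Fintype.card_subtype, Fintype.card_subtype, card_lab_fibre, hL]
  exact ⟨Equiv.ofFiberEquiv (fun j => Fintype.equivOfCardEq (hc j)), fun i => Equiv.ofFiberEquiv_map _ i⟩

theorem exists_perm_of_fibre_card {ι α : Type*} [Fintype ι] [DecidableEq α] (f g : ι → α)
    (h : ∀ a, (Finset.univ.filter fun i => f i = a).card = (Finset.univ.filter fun i => g i = a).card) :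
    ∃ σ : Equiv.Perm ι, ∀ i, g (σ i) = f i := by
  have hc : ∀ a, Fintype.card {i // f i = a} = Fintype.card {i // g i = a} := fun a => by
    rw [Fintype.card_subtype, Fintype.card_subtype, h]
  exact ⟨Equiv.ofFiberEquiv (fun a => Fintype.equivOfCardEq (hc a)), fun i => Equiv.ofFiberEquiv_map _ i⟩

theorem mem_youngSubgroup {μ : Fin n → ℕ} (σ : Equiv.Perm (Fin n)) :
    σ ∈ youngSubgroup μ ↔ ∀ i, compLabel μ (σ i) = compLabel μ i := Iff.rfl

end Cfsg.Agent.GLFlags
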