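import Cfsg.Agent.GLFlags.Functional

/-!
The alternating sums of flag characters against the generic characters of the unitriangular group.
-/

set_option autoImplicit false

namespace Cfsg.Agent.GLFlags

open scoped Classical

variable {n : ℕ}

theorem sum_shift {ν : Fin n → ℕ} (hν : ∑ i, ν i = n) (κ : Equiv.Perm (Fin n))
    (hκ : ∀ i, (κ i).val ≤ ν i + i.val) : ∑ i, (ν i + i.val - (κ i).val) = n := by
  have h : ∑ i, (ν i + i.val - (κ i).val) + ∑ i, (κ i).val = ∑ i, ν i + ∑ i : Fin n, i.val := by
    rw [← Finset.sum_add_distrib, ← Finset.sum_add_distrib]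
    exact Finset.sum_congr rfl fun i _ => Nat.sub_add_cancel (hκ i)
  rw [Equiv.sum_comp κ (fun i : Fin n => i.val), hν] at h
  omega

theorem eq_one_of_strictMono (κ : Equiv.Perm (Fin n)) (h : StrictMono κ) : κ = 1 := by
  have h1 : ∀ i, i ≤ κ i := fun i => h.id_le i
  have h2 : ∑ i, ((κ i).val - i.val) = 0 := by
    have h3 : ∑ i, ((κ i).val - i.val) + ∑ i : Fin n, i.val = ∑ i, (κ i).val := by
      rw [← Finset.sum_add_distrib]
      exact Finset.sum_congr rfl fun i _ => Nat.sub_add_cancel (Fin.le_def.mp (h1 i))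
    rw [Equiv.sum_comp κ (fun i : Fin n => i.val)] at h3
    omega
  rw [Finset.sum_eq_zero_iff] at h2
  refine Equiv.ext fun i => Fin.ext ?_
  have := h2 i (Finset.mem_univ i)
  have := Fin.le_def.mp (h1 i)
  simp only [Equiv.Perm.coe_one, id_eq]
  omega

theorem weight_lt_shift {ν : Fin n → ℕ} (hmono : Monotone ν) (κ : Equiv.Perm (Fin n)) (hne : κ ≠ 1)
    (hκ : ∀ i, (κ i).val ≤ ν i + i.val) : weight ν < weight (fun i => ν i + i.val - (κ i).val) := by
  let f : Fin n → ℕ := fun i => (n + 2) ^ (ν i + i.val)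
  let g : Fin n → ℕ := fun i => (n + 2) ^ (n - i.val)
  have hf : StrictMono f := fun a b hab => Nat.pow_lt_pow_right (by omega) (by
    have := hmono hab.le
    rw [Fin.lt_def] at hab
    omega)
  have hg : StrictAnti g := fun a b hab => Nat.pow_lt_pow_right (by omega) (by
    rw [Fin.lt_def] at hab; omega)
  have hnot : ¬ Antivary f (g ∘ κ) := by
    intro hA
    refine hne (eq_one_of_strictMono κ fun a b hab => ?_)
    rcases lt_trichotomy (κ a) (κ b) with h | h | h
    · exact h
    · exact absurd (κ.injective h) hab.ne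
    · exact absurd (hA (hg h : (g ∘ κ) a < (g ∘ κ) b)) (not_le.mpr (hf hab))
  have key := (hf.monotone.antivary hg.antitone).sum_mul_lt_sum_mul_comp_perm_iff (σ := κ) |>.mpr hnot
  have h1 : ∑ i, f i * g i = (n + 2) ^ n * weight ν := by
    rw [weight, Finset.mul_sum]
    exact Finset.sum_congr rfl fun i _ => by
      simp only [f, g, ← pow_add]; congr 1; have := i.isLt; omega
  have h2 : ∑ i, f i * g (κ i) = (n + 2) ^ n * weight (fun i => ν i + i.val - (κ i).val) := by
    rw [weight, Finset.mul_sum]
    exact Finset.sum_congr rfl fun i _ => by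
      simp only [f, g, ← pow_add]; congr 1; have := (κ i).isLt; have := hκ i; omega
  simp only [smul_eq_mul] at key
  rw [h1, h2] at key
  exact Nat.lt_of_mul_lt_mul_left key

theorem eq_of_sum_pow_eq (B : ℕ) : ∀ {k : ℕ}, k < B → ∀ a b : Fin k → ℕ, Monotone a → Monotone b →
    ∑ i, B ^ a i = ∑ i, B ^ b i → a = b := by
  intro k
  induction k with
  | zero => intro _ a b _ _ _; funext i; exact i.elim0
  | succ k ih =>
    intro hk a b ha hb h
    have key : ∀ a b : Fin (k + 1) → ℕ, Monotone a → a (Fin.last k) < b (Fin.last k) →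
        ∑ i, B ^ a i < ∑ i, B ^ b i := by
      intro a b ha hlt
      calc ∑ i, B ^ a i ≤ ∑ _i : Fin (k + 1), B ^ a (Fin.last k) :=
            Finset.sum_le_sum fun i _ => Nat.pow_le_pow_right (by omega) (ha (Fin.le_last i))
        _ = (k + 1) * B ^ a (Fin.last k) := by simp
        _ < B * B ^ a (Fin.last k) := Nat.mul_lt_mul_of_pos_right hk (pow_pos (by omega) _)
        _ = B ^ (a (Fin.last k) + 1) := (pow_succ' _ _).symm
        _ ≤ B ^ b (Fin.last k) := Nat.pow_le_pow_right (by omega) hlt
        _ ≤ ∑ i, B ^ b i := Finset.single_le_sum (fun i _ => Nat.zero_le (B ^ b i)) (Finset.mem_univ _)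
    have hl : a (Fin.last k) = b (Fin.last k) := by
      rcases lt_trichotomy (a (Fin.last k)) (b (Fin.last k)) with hh | hh | hh
      · exact absurd h (key a b ha hh).ne
      · exact hh
      · exact absurd h (key b a hb hh).ne'
    rw [Fin.sum_univ_castSucc, Fin.sum_univ_castSucc, hl, add_left_inj] at h
    have hinit := ih (by omega) (a ∘ Fin.castSucc) (b ∘ Fin.castSucc) (ha.comp Fin.strictMono_castSucc.monotone)
      (hb.comp Fin.strictMono_castSucc.monotone) h
    funext i
    cases i using Fin.lastCases with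
    | last => exact hl
    | cast i => exact congrFun hinit i

variable {F : Type*} [Field F] [Fintype F] [Fintype ↥(unitriangularGL n F)]

/-- The sum over the unitriangular group of the generic character of `ν` times the alternating sum of `ν'`. -/
theorem sum_generic_unipotent {ν ν' : Fin n → ℕ} (hν : ∑ i, ν i = n) (hν' : ∑ i, ν' i = n)
    (hmono : Monotone ν) (hmono' : Monotone ν') (hw : weight ν ≤ weight ν') {ψ : AddChar F ℂ} {c : F} (hc : ψ c ≠ 1) :
    ∑ u : ↥(unitriangularGL n F), genericChar ψ (lab _ (sum_conjComp hν)) u *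
      unipotentCharacterGL n F ν' (u : GL (Fin n) F) =
    if ν' = ν then ∑ u : ↥(unitriangularGL n F), genericChar ψ (lab _ (sum_conjComp hν)) u *
      fixedPointCharacter (parabolicGL n F ν) (u : GL (Fin n) F) else 0 := by
  simp only [unipotentCharacterGL, Finset.mul_sum]
  rw [Finset.sum_comm, Finset.sum_eq_single 1]
  · simp only [Equiv.Perm.coe_one, id_eq, Nat.add_sub_cancel]
    simp only [Equiv.Perm.sign_one, Units.val_one, Int.cast_one, one_mul, Nat.le_add_left, implies_true, if_true]
    split_ifs with h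
    · rw [h]
    · refine sum_generic_eq_zero hν hν' (lt_of_le_of_ne hw fun he => h ?_) hc
      exact (eq_of_sum_pow_eq (n + 2) (by omega) ν ν' hmono hmono' he).symm
  · intro κ _ hκ
    by_cases hle : ∀ i, (κ i).val ≤ ν' i + i.val
    · simp only [if_pos hle, mul_left_comm _ ((Equiv.Perm.sign κ : ℤ) : ℂ)]
      rw [← Finset.mul_sum, sum_generic_eq_zero hν (sum_shift hν' κ hle)
        (lt_of_le_of_lt hw (weight_lt_shift hmono' κ hκ hle)) hc, mul_zero]
    · simp [if_neg hle]
  · simp

end Cfsg.Agent.GLFlags
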