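import Mathlib
import Cfsg.Agent.S2420
import Cfsg.Agent.GLFlags.Unipotent

/-!
The degree of the alternating sums of flag characters, through a Vandermonde determinant.
-/

set_option autoImplicit false

namespace Cfsg.Agent.GLFlags

open Polynomial

universe u

/-- The q-integer. -/
noncomputable def qInt (q m : ℕ) : ℂ := ((∑ l ∈ Finset.range m, q ^ l : ℕ) : ℂ)

/-- The q-factorial. -/
noncomputable def qFac (q m : ℕ) : ℂ := ∏ j ∈ Finset.range m, qInt q (j + 1)

theorem qInt_succ_ne_zero (q m : ℕ) : qInt q (m + 1) ≠ 0 := by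
  refine Nat.cast_ne_zero.2 ?_
  rw [Finset.sum_range_succ']
  simp

theorem qFac_ne_zero (q m : ℕ) : qFac q m ≠ 0 :=
  Finset.prod_ne_zero_iff.2 fun j _ => qInt_succ_ne_zero q j

theorem qInt_add (q a b : ℕ) : qInt q (a + b) = qInt q a + (q : ℂ) ^ a * qInt q b := by
  unfold qInt
  push_cast
  rw [Finset.sum_range_add, Finset.mul_sum]
  simp only [pow_add]

theorem qFac_mul_prod (q : ℕ) {m j : ℕ} (h : j ≤ m) :
    qFac q (m - j) * ∏ l ∈ Finset.range j, qInt q (m - l) = qFac q m := by
  induction j with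
  | zero => simp
  | succ j ih =>
    rw [← ih (by omega), Finset.prod_range_succ, show m - j = m - (j + 1) + 1 by omega, qFac, qFac,
      Finset.prod_range_succ _ (m - (j + 1))]
    ring

theorem prod_qInt_shift (q m j : ℕ) :
    (∏ l ∈ Finset.range j, qInt q (m - l)) * (q : ℂ) ^ (∑ l ∈ Finset.range j, l) =
      ∏ l ∈ Finset.range j, (qInt q m - qInt q l) := by
  rw [← Finset.prod_pow_eq_pow_sum, ← Finset.prod_mul_distrib]
  rcases le_or_gt j m with h | h
  · refine Finset.prod_congr rfl fun l hl => ?_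
    rw [Finset.mem_range] at hl
    conv_rhs => rw [show m = l + (m - l) by omega, qInt_add]
    ring
  · rw [Finset.prod_eq_zero (Finset.mem_range.2 h) (by simp [qInt]),
      Finset.prod_eq_zero (Finset.mem_range.2 h) (sub_self _)]

theorem sum_binom_two (n : ℕ) :
    ∑ i : Fin n, ∑ l ∈ Finset.range (i : ℕ), l = n * (n - 1) * (n - 2) / 6 := by
  rw [Fin.sum_univ_eq_sum_range (fun i => ∑ l ∈ Finset.range i, l) n]
  suffices h : 6 * ∑ i ∈ Finset.range n, ∑ l ∈ Finset.range i, l = n * (n - 1) * (n - 2) by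
    rw [← h, Nat.mul_div_cancel_left _ (by norm_num)]
  induction n with
  | zero => simp
  | succ n ih =>
    have h2 := Finset.sum_range_id_mul_two n
    rw [Finset.sum_range_succ, Nat.mul_add, ih,
      show 6 * ∑ l ∈ Finset.range n, l = 3 * ((∑ l ∈ Finset.range n, l) * 2) by ring, h2]
    rcases n with _ | _ | n
    · rfl
    · rfl
    · simp only [Nat.add_sub_cancel, show n + 1 + 1 - 2 = n by omega,
        show n + 1 + 1 + 1 - 2 = n + 1 by omega]
      ring

/-- The degree formula. -/
theorem unipotentCharacterGL_one {F : Type*} [Field F] [Fintype F] {q : ℕ} (hq : Fintype.card F = q)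
    {n : ℕ} (ν : Fin n → ℕ) (hsum : ∑ i, ν i = n) :
    Cfsg.unipotentCharacterGL n F ν 1 * (q : ℂ) ^ (n * (n - 1) * (n - 2) / 6) *
        ∏ i : Fin n, qFac q (ν i + i.val) =
      qFac q n * ∏ i : Fin n, ∏ j ∈ Finset.Ioi i, (qInt q (ν j + j.val) - qInt q (ν i + i.val)) := by
  classical
  set y : Fin n → ℂ := fun i => qInt q (ν i + i.val) with hy
  let P : Fin n → ℂ[X] := fun j => ∏ l ∈ Finset.range j.val, (X - C (qInt q l))
  have hdeg : ∀ j, (P j).natDegree = j.val := fun j => by
    rw [natDegree_prod_of_monic _ _ fun l _ => monic_X_sub_C _]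
    simp only [natDegree_X_sub_C]
    simp
  have hmon : ∀ j, (P j).Monic := fun j => monic_prod_of_monic _ _ fun l _ => monic_X_sub_C _
  rw [← Matrix.det_vandermonde y,
    Matrix.det_eval_matrixOfPolynomials_eq_det_vandermonde y P hdeg hmon,
    ← Matrix.det_transpose, Matrix.det_apply', Finset.mul_sum, Cfsg.unipotentCharacterGL,
    Finset.sum_mul, Finset.sum_mul]
  refine Finset.sum_congr rfl fun κ _ => ?_
  simp only [Matrix.transpose_apply, Matrix.of_apply]
  have hP : ∀ i : Fin n, (P (κ i)).eval (y i) =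
      (∏ l ∈ Finset.range (κ i).val, qInt q (ν i + i.val - l)) *
        (q : ℂ) ^ (∑ l ∈ Finset.range (κ i).val, l) := fun i => by
    simp only [P, hy, eval_prod, eval_sub, eval_X, eval_C]
    exact (prod_qInt_shift q _ _).symm
  simp only [hP, Finset.prod_mul_distrib, Finset.prod_pow_eq_pow_sum]
  rw [Equiv.sum_comp κ (fun i : Fin n => ∑ l ∈ Finset.range i.val, l), sum_binom_two]
  split_ifs with h
  · have hfix : Cfsg.fixedPointCharacter
        (Cfsg.parabolicGL n F fun i => ν i + i.val - (κ i).val) (1 : GL (Fin n) F) =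
        (Nat.card (GL (Fin n) F ⧸ Cfsg.parabolicGL n F fun i => ν i + i.val - (κ i).val) : ℂ) := by
      rw [Cfsg.fixedPointCharacter, Nat.cast_inj]
      exact Nat.card_congr (Equiv.subtypeUnivEquiv fun x => one_smul _ x)
    have hidx := congrArg (fun t : ℕ => (t : ℂ))
      (Cfsg.Agent.S2420.result hq (fun i => ν i + i.val - (κ i).val) (sum_shift hsum κ h))
    simp only [Nat.cast_mul, Nat.cast_prod] at hidx
    have hprod : ∏ i : Fin n, qFac q (ν i + i.val) =
        (∏ i : Fin n, qFac q (ν i + i.val - (κ i).val)) *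
          ∏ i : Fin n, ∏ l ∈ Finset.range (κ i).val, qInt q (ν i + i.val - l) := by
      rw [← Finset.prod_mul_distrib]
      exact Finset.prod_congr rfl fun i _ => (qFac_mul_prod q (h i)).symm
    rw [hfix, hprod]
    have hidx' : (Nat.card (GL (Fin n) F ⧸ Cfsg.parabolicGL n F fun i => ν i + i.val - (κ i).val) : ℂ) *
        ∏ i : Fin n, qFac q (ν i + i.val - (κ i).val) = qFac q n := hidx
    linear_combination ((Equiv.Perm.sign κ : ℤ) : ℂ) * (q : ℂ) ^ (n * (n - 1) * (n - 2) / 6) *
      (∏ i : Fin n, ∏ l ∈ Finset.range (κ i).val, qInt q (ν i + i.val - l)) * hidx'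
  · obtain ⟨i, hi⟩ := not_forall.1 h
    have h0 : ∏ i : Fin n, ∏ l ∈ Finset.range (κ i).val, qInt q (ν i + i.val - l) = 0 :=
      Finset.prod_eq_zero (Finset.mem_univ i)
        (Finset.prod_eq_zero (Finset.mem_range.2 (not_le.1 hi)) (by simp [qInt]))
    rw [h0]
    ring

end Cfsg.Agent.GLFlags
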