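import Cfsg.Agent.GLFlags.Bruhat

/-!
Pairs of flags up to `GL_n` and pairs of labellings up to `S_n` are both counted by matrices with prescribed
row and column sums.
-/

set_option autoImplicit false

namespace Cfsg.Agent.GLFlags

open Matrix
open scoped Classical

variable {n : ℕ}

/-- Matrices of natural numbers with prescribed row and column sums. -/
def Margins (r c : Fin n → ℕ) : Type :=
  {M : Fin n → Fin n → ℕ // (∀ a, ∑ b, M a b = r a) ∧ ∀ b, ∑ a, M a b = c b}

variable {μ μ' : Fin n → ℕ} (hμ : ∑ k, μ k = n) (hμ' : ∑ k, μ' k = n)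

/-- The incidence matrix of two labellings. -/
noncomputable def cnt (σ τ : Equiv.Perm (Fin n)) (a b : Fin n) : ℕ :=
  (Finset.univ.filter fun i => lab μ hμ (σ.symm i) = a ∧ lab μ' hμ' (τ.symm i) = b).card

theorem cnt_margins (σ τ : Equiv.Perm (Fin n)) :
    (∀ a, ∑ b, cnt hμ hμ' σ τ a b = μ a) ∧ ∀ b, ∑ a, cnt hμ hμ' σ τ a b = μ' b := by
  constructor
  · intro a
    have h := Finset.card_eq_sum_card_fiberwise
      (f := fun i => lab μ' hμ' (τ.symm i)) (s := Finset.univ.filter fun i => lab μ hμ (σ.symm i) = a)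
      (t := Finset.univ) (fun _ _ => Finset.mem_univ _)
    simp only [Finset.filter_filter] at h
    exact h.symm.trans ((Finset.card_equiv σ.symm (by simp)).trans (card_lab_fibre hμ a))
  · intro b
    have h := Finset.card_eq_sum_card_fiberwise
      (f := fun i => lab μ hμ (σ.symm i)) (s := Finset.univ.filter fun i => lab μ' hμ' (τ.symm i) = b)
      (t := Finset.univ) (fun _ _ => Finset.mem_univ _)
    simp only [Finset.filter_filter] at h
    refine Eq.trans ?_ (h.symm.trans ((Finset.card_equiv τ.symm (by simp)).trans (card_lab_fibre hμ' b)))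
    exact Finset.sum_congr rfl fun a _ => by simp only [cnt, and_comm]

theorem exists_perms_of_margins (M : Margins μ μ') :
    ∃ σ τ : Equiv.Perm (Fin n), ∀ a b, cnt hμ hμ' σ τ a b = M.1 a b := by
  let T := (p : Fin n × Fin n) × Fin (M.1 p.1 p.2)
  have hT : Fintype.card T = n := by
    simp only [T, Fintype.card_sigma, Fintype.card_fin, Fintype.sum_prod_type, M.2.1, hμ]
  let e : Fin n ≃ T := (Fintype.equivFinOfCardEq hT).symm
  have hp : ∀ p : Fin n × Fin n, (Finset.univ.filter fun i => (e i).1 = p).card = M.1 p.1 p.2 := fun p => by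
    rw [← Fintype.card_subtype, Fintype.card_congr ((e.subtypeEquiv (q := fun t : T => t.1 = p) fun _ => Iff.rfl).trans
      (Equiv.sigmaSubtype p)), Fintype.card_fin]
  have h1 : ∀ a, (Finset.univ.filter fun i => (e i).1.1 = a).card = μ a := fun a => by
    rw [Finset.card_eq_sum_card_fiberwise (f := fun i => (e i).1.2) (t := Finset.univ) fun _ _ => Finset.mem_univ _,
      ← M.2.1 a]
    refine Finset.sum_congr rfl fun b _ => ?_
    rw [Finset.filter_filter, ← hp (a, b)]
    congr 1
    ext i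
    simp [Prod.ext_iff]
  have h2 : ∀ b, (Finset.univ.filter fun i => (e i).1.2 = b).card = μ' b := fun b => by
    rw [Finset.card_eq_sum_card_fiberwise (f := fun i => (e i).1.1) (t := Finset.univ) fun _ _ => Finset.mem_univ _,
      ← M.2.2 b]
    refine Finset.sum_congr rfl fun a _ => ?_
    rw [Finset.filter_filter, ← hp (a, b)]
    congr 1
    ext i
    simp [Prod.ext_iff, and_comm]
  obtain ⟨σ, hσ⟩ := exists_perm_lab hμ _ h1
  obtain ⟨τ, hτ⟩ := exists_perm_lab hμ' _ h2
  refine ⟨σ, τ, fun a b => ?_⟩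
  rw [cnt, ← hp (a, b)]
  congr 1
  ext i
  have e1 : lab μ hμ (σ.symm i) = (e i).1.1 := by rw [← hσ]; simp
  have e2 : lab μ' hμ' (τ.symm i) = (e i).1.2 := by rw [← hτ]; simp
  simp [e1, e2, Prod.ext_iff]

theorem exists_perm_of_cnt_eq {σ τ σ' τ' : Equiv.Perm (Fin n)}
    (h : ∀ a b, cnt hμ hμ' σ τ a b = cnt hμ hμ' σ' τ' a b) :
    ∃ π : Equiv.Perm (Fin n), σ'⁻¹ * π * σ ∈ youngSubgroup μ ∧ τ'⁻¹ * π * τ ∈ youngSubgroup μ' := by
  obtain ⟨π, hπ⟩ := exists_perm_of_fibre_card
    (fun i => (lab μ hμ (σ.symm i), lab μ' hμ' (τ.symm i)))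
    (fun i => (lab μ hμ (σ'.symm i), lab μ' hμ' (τ'.symm i))) (fun p => by
      simpa [cnt, Prod.ext_iff] using h p.1 p.2)
  refine ⟨π, fun i => ?_, fun i => ?_⟩
  · have := congrArg (fun p : Fin n × Fin n => p.1.val) (hπ (σ i))
    simpa [Equiv.Perm.inv_def] using this
  · have := congrArg (fun p : Fin n × Fin n => p.2.val) (hπ (τ i))
    simpa [Equiv.Perm.inv_def] using this

/-- The pair of cosets of two permutations. -/
def symPair (μ μ' : Fin n → ℕ) (σ τ : Equiv.Perm (Fin n)) :
    (Equiv.Perm (Fin n) ⧸ youngSubgroup μ) × (Equiv.Perm (Fin n) ⧸ youngSubgroup μ') :=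
  (QuotientGroup.mk σ, QuotientGroup.mk τ)

include hμ hμ'

theorem card_orbits_young :
    Nat.card (MulAction.orbitRel.Quotient (Equiv.Perm (Fin n))
      ((Equiv.Perm (Fin n) ⧸ youngSubgroup μ) × (Equiv.Perm (Fin n) ⧸ youngSubgroup μ'))) =
    Nat.card (Margins μ μ') := by
  choose S T hST using exists_perms_of_margins hμ hμ'
  symm
  refine Nat.card_congr (Equiv.ofBijective
    (fun M => (Quotient.mk'' (symPair μ μ' (S M) (T M)) : MulAction.orbitRel.Quotient _ _)) ⟨?_, ?_⟩)
  · intro M M' h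
    obtain ⟨π, hπ⟩ := MulAction.orbitRel_apply.mp (Quotient.eq''.mp h)
    simp only [symPair, Prod.smul_mk, MulAction.Quotient.smul_mk, Prod.mk.injEq, QuotientGroup.eq, smul_eq_mul] at hπ
    refine Subtype.ext (funext fun a => funext fun b => ?_)
    rw [← hST M, ← hST M']
    refine Finset.card_equiv π.symm fun i => ?_
    have e1 := hπ.1 ((S M).symm i)
    have e2 := hπ.2 ((T M).symm i)
    simp only [Equiv.Perm.mul_apply, Equiv.apply_symm_apply, _root_.mul_inv_rev, Equiv.Perm.inv_def, Equiv.Perm.mul_def, Equiv.trans_apply, Equiv.symm_trans_apply] at e1 e2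
    simp [Fin.ext_iff, ← e1, ← e2]
  · intro q
    induction q using Quotient.inductionOn' with
    | h x =>
      obtain ⟨x, y⟩ := x
      obtain ⟨σ, rfl⟩ := QuotientGroup.mk_surjective x
      obtain ⟨τ, rfl⟩ := QuotientGroup.mk_surjective y
      let M : Margins μ μ' := ⟨cnt hμ hμ' σ τ, cnt_margins hμ hμ' σ τ⟩
      obtain ⟨π, h1, h2⟩ := exists_perm_of_cnt_eq hμ hμ' (fun a b => (hST M a b).symm)
      refine ⟨M, Quotient.eq''.mpr ⟨π, ?_⟩⟩
      simp only [symPair, Prod.smul_mk, MulAction.Quotient.smul_mk, Prod.mk.injEq, QuotientGroup.eq, smul_eq_mul]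
      constructor
      · have := inv_mem h1; simpa [mul_assoc] using this
      · have := inv_mem h2; simpa [mul_assoc] using this

omit hμ hμ'

variable {F : Type*} [Field F]

theorem parabolic_mulVec_supp {ν : Fin n → ℕ} {p : GL (Fin n) F} (hp : p ∈ parabolicGL n F ν) (k : ℕ)
    {x : Fin n → F} (hx : ∀ j, k ≤ compLabel ν j → x j = 0) :
    ∀ i, k ≤ compLabel ν i → ((p : Matrix (Fin n) (Fin n) F) *ᵥ x) i = 0 := by
  intro i hi
  rw [Matrix.mulVec, dotProduct]
  refine Finset.sum_eq_zero fun j _ => ?_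
  rcases le_or_gt k (compLabel ν j) with h | h
  · simp [hx j h]
  · rw [hp (show compLabel ν j < compLabel ν i by omega), zero_mul]

/-- Vectors in the `a`-th member of the flag `x` and the `b`-th member of the flag `y`. -/
def flagMeet (μ μ' : Fin n → ℕ) (x y : GL (Fin n) F) (a b : ℕ) : Set (Fin n → F) :=
  {v | (∀ i, a ≤ compLabel μ i → (((x⁻¹ : GL (Fin n) F) : Matrix (Fin n) (Fin n) F) *ᵥ v) i = 0) ∧
    ∀ i, b ≤ compLabel μ' i → (((y⁻¹ : GL (Fin n) F) : Matrix (Fin n) (Fin n) F) *ᵥ v) i = 0}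

theorem card_flagMeet_eq_of_orbit {x y x' y' : GL (Fin n) F}
    (h : ∃ g : GL (Fin n) F, g • ((QuotientGroup.mk x', QuotientGroup.mk y') :
      (GL (Fin n) F ⧸ parabolicGL n F μ) × (GL (Fin n) F ⧸ parabolicGL n F μ')) =
      (QuotientGroup.mk x, QuotientGroup.mk y)) (a b : ℕ) :
    Nat.card (flagMeet μ μ' x y a b) = Nat.card (flagMeet μ μ' x' y' a b) := by
  obtain ⟨g, hg⟩ := h
  simp only [Prod.smul_mk, MulAction.Quotient.smul_mk, Prod.mk.injEq, QuotientGroup.eq, smul_eq_mul] at hg
  have key : ∀ (ν : Fin n → ℕ) (k : ℕ) (z z' : GL (Fin n) F), (g * z')⁻¹ * z ∈ parabolicGL n F ν → ∀ v : Fin n → F,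
      (∀ i, k ≤ compLabel ν i → (((z⁻¹ : GL (Fin n) F) : Matrix (Fin n) (Fin n) F) *ᵥ v) i = 0) ↔
      ∀ i, k ≤ compLabel ν i → (((z'⁻¹ : GL (Fin n) F) : Matrix (Fin n) (Fin n) F) *ᵥ
        (((g⁻¹ : GL (Fin n) F) : Matrix (Fin n) (Fin n) F) *ᵥ v)) i = 0 := by
    intro ν k z z' hp v
    have e1 : (g * z')⁻¹ * z * z⁻¹ = z'⁻¹ * g⁻¹ := by rw [mul_inv_cancel_right, _root_.mul_inv_rev]
    have e2 : ((g * z')⁻¹ * z)⁻¹ * (z'⁻¹ * g⁻¹) = z⁻¹ := by rw [← e1, inv_mul_cancel_left]
    rw [Matrix.mulVec_mulVec, ← Units.val_mul]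
    constructor <;> intro h
    · have := parabolic_mulVec_supp hp k h
      rwa [Matrix.mulVec_mulVec, ← Units.val_mul, e1] at this
    · have := parabolic_mulVec_supp (inv_mem hp) k h
      rwa [Matrix.mulVec_mulVec, ← Units.val_mul, e2] at this
  let e : (Fin n → F) ≃ (Fin n → F) :=
    { toFun := fun v => ((g⁻¹ : GL (Fin n) F) : Matrix (Fin n) (Fin n) F) *ᵥ v
      invFun := fun v => (g : Matrix (Fin n) (Fin n) F) *ᵥ v
      left_inv := fun v => by simp [Matrix.mulVec_mulVec]
      right_inv := fun v => by simp [Matrix.mulVec_mulVec] }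
  exact Nat.card_congr (e.subtypeEquiv fun v => and_congr (key μ a x x' hg.1 v) (key μ' b y y' hg.2 v))

theorem permGL_inv_mulVec (σ : Equiv.Perm (Fin n)) (v : Fin n → F) (i : Fin n) :
    ((((permGL n F σ)⁻¹ : GL (Fin n) F) : Matrix (Fin n) (Fin n) F) *ᵥ v) i = v (σ i) := by
  rw [← map_inv, Matrix.mulVec, dotProduct, Finset.sum_eq_single (σ i)]
  · simp [permGL_apply, Equiv.Perm.inv_def]
  · intro k _ hk
    rw [permGL_apply, if_neg, zero_mul]
    intro he; exact hk (by rw [he]; simp [Equiv.Perm.inv_def])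
  · simp

theorem card_flagMeet_perm [Fintype F] (σ τ : Equiv.Perm (Fin n)) (a b : ℕ) :
    Nat.card (flagMeet μ μ' (permGL n F σ) (permGL n F τ) a b) =
      Fintype.card F ^ (Finset.univ.filter fun i =>
        compLabel μ (σ.symm i) < a ∧ compLabel μ' (τ.symm i) < b).card := by
  let S := Finset.univ.filter fun i => compLabel μ (σ.symm i) < a ∧ compLabel μ' (τ.symm i) < b
  have hmem : ∀ v, v ∈ flagMeet μ μ' (permGL n F σ) (permGL n F τ) a b ↔ ∀ i, i ∉ S → v i = 0 := by
    intro v
    simp only [flagMeet, Set.mem_setOf_eq, permGL_inv_mulVec, S, Finset.mem_filter, Finset.mem_univ, true_and]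
    constructor
    · rintro ⟨h1, h2⟩ i hi
      rcases not_and_or.mp hi with h | h
      · simpa using h1 (σ.symm i) (not_lt.mp h)
      · simpa using h2 (τ.symm i) (not_lt.mp h)
    · intro h
      exact ⟨fun i hi => h _ fun hc => by simp at hc; omega, fun i hi => h _ fun hc => by simp at hc; omega⟩
  have e : flagMeet μ μ' (permGL n F σ) (permGL n F τ) a b ≃ (S → F) :=
    { toFun := fun v i => v.1 i.1
      invFun := fun f => ⟨fun i => if h : i ∈ S then f ⟨i, h⟩ else 0, (hmem _).mpr fun i hi => by simp [hi]⟩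
      left_inv := fun v => Subtype.ext (funext fun i => by
        by_cases h : i ∈ S
        · simp [h]
        · simp [h, (hmem _).mp v.2 i h])
      right_inv := fun f => funext fun i => by simp }
  rw [Nat.card_congr e, Nat.card_fun, Nat.card_eq_fintype_card, Nat.card_eq_fintype_card, Fintype.card_coe]

include hμ hμ' in
theorem card_orbits_parabolic [Fintype F] :
    Nat.card (MulAction.orbitRel.Quotient (GL (Fin n) F)
      ((GL (Fin n) F ⧸ parabolicGL n F μ) × (GL (Fin n) F ⧸ parabolicGL n F μ'))) =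
    Nat.card (Margins μ μ') := by
  choose S T hST using exists_perms_of_margins hμ hμ'
  symm
  refine Nat.card_congr (Equiv.ofBijective (fun M => (Quotient.mk''
    ((QuotientGroup.mk (permGL n F (S M)), QuotientGroup.mk (permGL n F (T M))) :
      (GL (Fin n) F ⧸ parabolicGL n F μ) × (GL (Fin n) F ⧸ parabolicGL n F μ'))
      : MulAction.orbitRel.Quotient _ _)) ⟨?_, ?_⟩)
  · intro M M' h
    have hK : ∀ a b : ℕ, (Finset.univ.filter fun i =>
          compLabel μ ((S M).symm i) < a ∧ compLabel μ' ((T M).symm i) < b).card =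
        (Finset.univ.filter fun i =>
          compLabel μ ((S M').symm i) < a ∧ compLabel μ' ((T M').symm i) < b).card := fun a b => by
      have := card_flagMeet_eq_of_orbit (MulAction.orbitRel_apply.mp (Quotient.eq''.mp h)) a b
      rw [card_flagMeet_perm, card_flagMeet_perm] at this
      exact Nat.pow_right_injective Fintype.one_lt_card this
    refine Subtype.ext (funext fun a => funext fun b => ?_)
    rw [← hST M, ← hST M']
    have hsplit : ∀ (σ τ : Equiv.Perm (Fin n)),
        (Finset.univ.filter fun i => compLabel μ (σ.symm i) < a + 1 ∧ compLabel μ' (τ.symm i) < b + 1).card +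
          (Finset.univ.filter fun i => compLabel μ (σ.symm i) < a ∧ compLabel μ' (τ.symm i) < b).card =
        cnt hμ hμ' σ τ a b +
          ((Finset.univ.filter fun i => compLabel μ (σ.symm i) < a ∧ compLabel μ' (τ.symm i) < b + 1).card +
          (Finset.univ.filter fun i => compLabel μ (σ.symm i) < a + 1 ∧ compLabel μ' (τ.symm i) < b).card) := by
      intro σ τ
      simp only [cnt, Finset.card_filter, ← Finset.sum_add_distrib]
      refine Finset.sum_congr rfl fun i _ => ?_
      simp only [Fin.ext_iff, lab_val]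
      split_ifs <;> omega
    have h1 := hsplit (S M) (T M)
    have h2 := hsplit (S M') (T M')
    simp only [hK] at h1
    omega
  · intro q
    induction q using Quotient.inductionOn' with
    | h x =>
      obtain ⟨x, y⟩ := x
      obtain ⟨x, rfl⟩ := QuotientGroup.mk_surjective x
      obtain ⟨y, rfl⟩ := QuotientGroup.mk_surjective y
      obtain ⟨u, hu, τ, b, hb, hxy⟩ := exists_bruhat (x⁻¹ * y)
      let M : Margins μ μ' := ⟨cnt hμ hμ' 1 τ, cnt_margins hμ hμ' 1 τ⟩
      obtain ⟨π, h1, h2⟩ := exists_perm_of_cnt_eq hμ hμ' (fun a b => (hST M a b))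
      refine ⟨M, Eq.symm ?_⟩
      refine Quotient.eq''.mpr ⟨(x * u * permGL n F π), ?_⟩
      simp only [Prod.smul_mk, MulAction.Quotient.smul_mk, Prod.mk.injEq, QuotientGroup.eq, smul_eq_mul]
      have hy : y = x * u * permGL n F τ * b := by
        rw [mul_assoc, mul_assoc, ← mul_assoc u, ← hxy, mul_inv_cancel_left]
      have hP1 := permGL_mem_parabolicGL (F := F) h1
      have hP2 := permGL_mem_parabolicGL (F := F) h2
      simp only [inv_one, one_mul, map_mul, map_inv] at hP1 hP2
      constructor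
      · have := mul_mem (inv_mem hP1) (inv_mem (upper_le_parabolicGL μ hu.1))
        simpa [_root_.mul_inv_rev, mul_assoc] using this
      · have := mul_mem (inv_mem hP2) (upper_le_parabolicGL μ' hb)
        simpa [hy, _root_.mul_inv_rev, mul_assoc] using this

end Cfsg.Agent.GLFlags
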