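import Cfsg.Agent.GLFlags.Bruhat

/-!
Sums of permutation characters against a character of the unitriangular group.
-/

set_option autoImplicit false

namespace Cfsg.Agent.GLFlags

open Matrix
open scoped Classical

/-! ### A linear character against a permutation character -/

section General

variable {G : Type*} [Group G] [Fintype G] {U P : Subgroup G} [Fintype ↥U]

theorem sum_mul_fixed (θ : ↥U →* ℂ) :
    ∑ u : ↥U, θ u * fixedPointCharacter P (u : G) =
      ∑ x : G ⧸ P,
        if ∀ u : ↥U, (u : G) • x = x → θ u = 1 then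
          ((Finset.univ.filter fun u : ↥U => (u : G) • x = x).card : ℂ) else 0 := by
  have h1 : ∀ g : G, fixedPointCharacter P g = ∑ x : G ⧸ P, if g • x = x then (1 : ℂ) else 0 := fun g => by
    rw [Finset.sum_boole, fixedPointCharacter, Nat.card_eq_fintype_card, ← Set.toFinset_card]
    congr 2
    ext x
    simp
  simp only [h1, Finset.mul_sum]
  rw [Finset.sum_comm]
  refine Finset.sum_congr rfl fun x _ => ?_
  simp only [mul_ite, mul_one, mul_zero]
  rw [← Finset.sum_filter]
  let S : Subgroup ↥U := (MulAction.stabilizer G x).comap U.subtype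
  have hS : ∀ u, u ∈ S ↔ (u : G) • x = x := fun u => MulAction.mem_stabilizer_iff
  rw [Finset.sum_subtype _ (p := fun u => u ∈ S) (fun u => by simp [hS]) θ]
  have h2 := sum_hom_units (θ.comp S.subtype)
  simp only [MonoidHom.comp_apply, Subgroup.coe_subtype] at h2
  rw [h2]
  by_cases h : ∀ u : ↥U, (u : G) • x = x → θ u = 1
  · rw [if_pos h, if_pos (MonoidHom.ext fun u : ↥S => h u.1 ((hS u.1).mp u.2))]
    rw [Fintype.card_subtype]
    push_cast
    congr 2
    ext u
    simp [hS]
  · rw [if_neg h, if_neg fun he => h fun u hu => DFunLike.congr_fun he (⟨u, (hS u).mpr hu⟩ : ↥S)]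
    simp

theorem sum_mul_fixed_eq_zero (θ : ↥U →* ℂ)
    (h : ∀ x : G ⧸ P, ∃ u : ↥U, (u : G) • x = x ∧ θ u ≠ 1) :
    ∑ u : ↥U, θ u * fixedPointCharacter P (u : G) = 0 := by
  rw [sum_mul_fixed]
  refine Finset.sum_eq_zero fun x _ => if_neg fun h' => ?_
  obtain ⟨u, hu, hne⟩ := h x
  exact hne (h' u hu)

theorem sum_mul_fixed_pos (θ : ↥U →* ℂ) (x : G ⧸ P) (h : ∀ u : ↥U, (u : G) • x = x → θ u = 1) :
    ∃ k : ℕ, k ≠ 0 ∧ ∑ u : ↥U, θ u * fixedPointCharacter P (u : G) = k := by
  refine ⟨∑ x : G ⧸ P, if ∀ u : ↥U, (u : G) • x = x → θ u = 1 then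
      (Finset.univ.filter fun u : ↥U => (u : G) • x = x).card else 0, ?_, ?_⟩
  · intro h0
    have := Finset.sum_eq_zero_iff.mp h0 x (Finset.mem_univ _)
    rw [if_pos h, Finset.card_eq_zero] at this
    exact Finset.eq_empty_iff_forall_notMem.mp this 1 (by simp)
  · rw [sum_mul_fixed]
    push_cast [apply_ite Nat.cast]
    rfl

end General

/-! ### Degenerate Gelfand-Graev characters -/

variable {n : ℕ} {F : Type*} [Field F]

/-- The sum of the superdiagonal entries lying inside the blocks of `blk`. -/
def superSum (blk : Fin n → Fin n) (A : Matrix (Fin n) (Fin n) F) : F :=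
  ∑ i, ∑ j, if j.val = i.val + 1 ∧ blk i = blk j then A i j else 0

theorem superSum_mul (blk : Fin n → Fin n) {a b : GL (Fin n) F} (ha : a ∈ unitriangularGL n F)
    (hb : b ∈ unitriangularGL n F) :
    superSum blk ((a * b : GL (Fin n) F) : Matrix (Fin n) (Fin n) F) =
      superSum blk (a : Matrix (Fin n) (Fin n) F) + superSum blk (b : Matrix (Fin n) (Fin n) F) := by
  simp only [superSum, ← Finset.sum_add_distrib]
  refine Finset.sum_congr rfl fun i _ => Finset.sum_congr rfl fun j _ => ?_
  by_cases h : j.val = i.val + 1 ∧ blk i = blk j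
  · simp only [if_pos h]
    rw [Units.val_mul, Matrix.mul_apply, Finset.sum_eq_add (s := Finset.univ) i j]
    · rw [ha.2, hb.2, one_mul, mul_one, add_comm]
    · exact fun he => by rw [he] at h; omega
    · intro k _ hk
      rcases lt_or_ge k i with hki | hki
      · rw [ha.1 (show id k < id i from hki), zero_mul]
      · have : j < k := by
          rw [Fin.lt_def]
          have := Fin.val_ne_of_ne hk.1
          have := Fin.val_ne_of_ne hk.2
          have := Fin.le_def.mp hki
          omega
        rw [hb.1 (show id j < id k from this), mul_zero]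
    · simp
    · simp
  · simp [if_neg h]

/-- The character of the unitriangular group attached to an additive character and a block function. -/
def genericChar (ψ : AddChar F ℂ) (blk : Fin n → Fin n) : ↥(unitriangularGL n F) →* ℂ where
  toFun u := ψ (superSum blk ((u : GL (Fin n) F) : Matrix (Fin n) (Fin n) F))
  map_one' := by
    have : superSum blk (1 : Matrix (Fin n) (Fin n) F) = 0 := Finset.sum_eq_zero fun i _ =>
      Finset.sum_eq_zero fun j _ => by
        split_ifs with h
        · exact Matrix.one_apply_ne fun he => by rw [he] at h; omega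
        · rfl
    simp [this]
  map_mul' a b := by
    rw [Subgroup.coe_mul, superSum_mul blk a.2 b.2, AddChar.map_add_eq_mul]

theorem genericChar_apply (ψ : AddChar F ℂ) (blk : Fin n → Fin n) (u : ↥(unitriangularGL n F)) :
    genericChar ψ blk u = ψ (superSum blk ((u : GL (Fin n) F) : Matrix (Fin n) (Fin n) F)) := rfl

/-- An elementary unitriangular matrix. -/
def elemU {a a' : Fin n} (h : a < a') (c : F) : ↥(unitriangularGL n F) :=
  ⟨Matrix.SpecialLinearGroup.toGL (Matrix.SpecialLinearGroup.transvection h.ne c), by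
    have hv : ((Matrix.SpecialLinearGroup.toGL (Matrix.SpecialLinearGroup.transvection h.ne c) : GL (Fin n) F)
        : Matrix (Fin n) (Fin n) F) = 1 + Matrix.single a a' c := rfl
    refine ⟨fun i j (hij : j < i) => ?_, fun i => ?_⟩
    · rw [hv]
      simp [Matrix.one_apply_ne hij.ne', Matrix.single_apply]
      intro h1 h2; subst h1; subst h2; exact absurd h (not_lt.mpr hij.le)
    · rw [hv]
      simp [Matrix.single_apply]
      intro h1 h2; subst h1; exact absurd h2 h.ne'⟩

theorem elemU_apply {a a' : Fin n} (h : a < a') (c : F) (i j : Fin n) :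
    ((elemU h c : GL (Fin n) F) : Matrix (Fin n) (Fin n) F) i j =
      (if i = j then 1 else 0) + if a = i ∧ a' = j then c else 0 := by
  change (1 + Matrix.single a a' c) i j = _
  rw [Matrix.add_apply, Matrix.one_apply, Matrix.single_apply]

theorem superSum_elemU (blk : Fin n → Fin n) {a a' : Fin n} (h : a < a') (h1 : a'.val = a.val + 1)
    (h2 : blk a = blk a') (c : F) :
    superSum blk ((elemU h c : GL (Fin n) F) : Matrix (Fin n) (Fin n) F) = c := by
  rw [superSum, Finset.sum_eq_single a]
  · rw [Finset.sum_eq_single a']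
    · rw [if_pos ⟨h1, h2⟩, elemU_apply, if_neg h.ne, if_pos ⟨rfl, rfl⟩, zero_add]
    · intro j _ hj
      split_ifs with hh
      · exact absurd (Fin.ext (hh.1.trans h1.symm)) hj
      · rfl
    · simp
  · intro i _ hi
    refine Finset.sum_eq_zero fun j _ => ?_
    split_ifs with hh
    · rw [elemU_apply, if_neg (fun he => by rw [he] at hh; omega), if_neg (fun he => hi he.1.symm), add_zero]
    · rfl
  · simp

theorem smul_mk_permGL {μ : Fin n → ℕ} (σ : Equiv.Perm (Fin n)) (g : GL (Fin n) F) :
    g • (QuotientGroup.mk (permGL n F σ) : GL (Fin n) F ⧸ parabolicGL n F μ) = QuotientGroup.mk (permGL n F σ) ↔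
      ∀ a b, compLabel μ (σ.symm b) < compLabel μ (σ.symm a) → (g : Matrix (Fin n) (Fin n) F) a b = 0 := by
  rw [MulAction.Quotient.smul_mk, eq_comm, QuotientGroup.eq, smul_eq_mul, ← mul_assoc, mem_parabolicGL]
  simp only [permGL_conj_apply]
  constructor
  · intro h a b hab; simpa using h (σ.symm a) (σ.symm b) hab
  · intro h i j hij; exact h _ _ (by simpa using hij)

/-- If a label function has a weak ascent at a superdiagonal position, the generic character is non-trivial
on the stabiliser of every flag in the corresponding Bruhat cell. -/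
theorem exists_stab_ne_one {ψ : AddChar F ℂ} {c : F} (hc : ψ c ≠ 1) {blk : Fin n → Fin n} {μ : Fin n → ℕ}
    {σ : Equiv.Perm (Fin n)} {a a' : Fin n} (h1 : a'.val = a.val + 1) (h2 : blk a = blk a')
    (h3 : compLabel μ (σ.symm a) ≤ compLabel μ (σ.symm a'))
    {v : GL (Fin n) F} (hv : v ∈ unitriangularGL n F) {b : GL (Fin n) F} (hb : b ∈ parabolicGL n F μ) :
    ∃ u : ↥(unitriangularGL n F),
      (u : GL (Fin n) F) • (QuotientGroup.mk (v * permGL n F σ * b) : GL (Fin n) F ⧸ parabolicGL n F μ) =
        QuotientGroup.mk (v * permGL n F σ * b) ∧ genericChar ψ blk u ≠ 1 := by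
  have hlt : a < a' := Fin.lt_def.mpr (by omega)
  let e := elemU (F := F) hlt c
  let v' : ↥(unitriangularGL n F) := ⟨v, hv⟩
  have hx : (QuotientGroup.mk (v * permGL n F σ * b) : GL (Fin n) F ⧸ parabolicGL n F μ) =
      v • (QuotientGroup.mk (permGL n F σ) : GL (Fin n) F ⧸ parabolicGL n F μ) := by
    rw [MulAction.Quotient.smul_mk, smul_eq_mul]
    exact QuotientGroup.eq.mpr (by simpa [mul_assoc] using inv_mem hb)
  refine ⟨v' * e * v'⁻¹, ?_, ?_⟩
  · rw [hx, Subgroup.coe_mul, Subgroup.coe_mul, Subgroup.coe_inv]
    change (v * (e : GL (Fin n) F) * v⁻¹) • v • _ = v • _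
    rw [smul_smul, inv_mul_cancel_right, mul_smul]
    congr 1
    rw [smul_mk_permGL]
    intro x y hxy
    rw [elemU_apply, if_neg (fun he => by rw [he] at hxy; exact lt_irrefl _ hxy),
      if_neg (fun he => by rw [← he.1, ← he.2] at hxy; omega), add_zero]
  · rw [map_mul, map_mul, mul_comm (genericChar ψ blk v'), mul_assoc, ← map_mul, mul_inv_cancel, map_one,
      mul_one, genericChar_apply, superSum_elemU blk hlt h1 h2]
    exact hc

theorem genericChar_eq_one_of_stab {ψ : AddChar F ℂ} {blk : Fin n → Fin n} {μ : Fin n → ℕ}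
    {σ : Equiv.Perm (Fin n)}
    (hdec : ∀ a a' : Fin n, a'.val = a.val + 1 → blk a = blk a' →
      compLabel μ (σ.symm a') < compLabel μ (σ.symm a))
    (u : ↥(unitriangularGL n F))
    (hu : (u : GL (Fin n) F) • (QuotientGroup.mk (permGL n F σ) : GL (Fin n) F ⧸ parabolicGL n F μ) =
      QuotientGroup.mk (permGL n F σ)) : genericChar ψ blk u = 1 := by
  rw [smul_mk_permGL] at hu
  have : superSum blk ((u : GL (Fin n) F) : Matrix (Fin n) (Fin n) F) = 0 :=
    Finset.sum_eq_zero fun i _ => Finset.sum_eq_zero fun j _ => by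
      split_ifs with h
      · exact hu i j (hdec i j h.1 h.2)
      · rfl
  rw [genericChar_apply, this, AddChar.map_zero_eq_one]

/-! ### Blocks conjugate to a partition -/

/-- Sizes of the blocks attached to `ν`: the conjugate partition. -/
def conjComp (ν : Fin n → ℕ) : Fin n → ℕ := fun k => (Finset.univ.filter fun i => k.val < ν i).card

theorem sum_conjComp {ν : Fin n → ℕ} (hν : ∑ i, ν i = n) : ∑ k, conjComp ν k = n := by
  simp only [conjComp, Finset.card_filter]
  rw [Finset.sum_comm]
  refine Eq.trans ?_ hν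
  refine Finset.sum_congr rfl fun i _ => ?_
  have hi : ν i ≤ n := hν ▸ Finset.single_le_sum (fun j _ => Nat.zero_le (ν j)) (Finset.mem_univ i)
  rw [← Finset.card_filter]
  rcases Nat.lt_or_ge (ν i) n with h | h
  · rw [show (Finset.univ.filter fun k : Fin n => k.val < ν i) = Finset.Iio ⟨ν i, h⟩ by ext; simp [Fin.lt_def],
      Fin.card_Iio]
  · rw [Finset.filter_true_of_mem fun k _ => by have := k.isLt; omega]
    simp; omega

theorem lt_apply_iff_of_monotone {ν : Fin n → ℕ} (hmono : Monotone ν) (k i : Fin n) :
    k.val < ν i ↔ n ≤ i.val + conjComp ν k := by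
  constructor
  · intro h
    have hsub : Finset.Ici i ⊆ Finset.univ.filter fun j => k.val < ν j := fun j hj => by
      simp only [Finset.mem_Ici] at hj
      simpa using h.trans_le (hmono hj)
    have := Finset.card_le_card hsub
    rw [Fin.card_Ici] at this
    rw [conjComp]
    omega
  · intro h
    by_contra hc
    have hsub : (Finset.univ.filter fun j => k.val < ν j) ⊆ Finset.Ioi i := fun j hj => by
      simp only [Finset.mem_filter, Finset.mem_univ, true_and] at hj
      simp only [Finset.mem_Ioi]
      by_contra hji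
      exact hc (hj.trans_le (hmono (not_lt.mp hji)))
    have := Finset.card_le_card hsub
    rw [Fin.card_Ioi] at this
    rw [conjComp] at h
    omega

theorem exists_descending_labels {ν : Fin n → ℕ} (hmono : Monotone ν) (hν : ∑ i, ν i = n) :
    ∃ σ : Equiv.Perm (Fin n), ∀ a a' : Fin n, a'.val = a.val + 1 →
      lab _ (sum_conjComp hν) a = lab _ (sum_conjComp hν) a' →
      compLabel ν (σ.symm a') < compLabel ν (σ.symm a) := by
  have hcs := sum_conjComp hν
  have hspec : ∀ p, psum (conjComp ν) (lab (conjComp ν) hcs p) ≤ p.val ∧ p.val < psum (conjComp ν) (lab (conjComp ν) hcs p) + (conjComp ν) (lab (conjComp ν) hcs p) := fun p => by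
    have := (lab_eq_iff hcs p (lab (conjComp ν) hcs p)).mp rfl
    rwa [psum_succ] at this
  let L : Fin n → Fin n := fun p => ⟨n - 1 - (p.val - psum (conjComp ν) (lab (conjComp ν) hcs p)), by have := p.isLt; omega⟩
  have hfib : ∀ i, (Finset.univ.filter fun p => L p = i).card = ν i := by
    intro i
    have hi : ν i ≤ n := hν ▸ Finset.single_le_sum (fun j _ => Nat.zero_le (ν j)) (Finset.mem_univ i)
    have hcard : (Finset.univ.filter fun k : Fin n => k.val < ν i).card = ν i := by
      rcases Nat.lt_or_ge (ν i) n with h | h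
      · rw [show (Finset.univ.filter fun k : Fin n => k.val < ν i) = Finset.Iio ⟨ν i, h⟩ by ext; simp [Fin.lt_def],
          Fin.card_Iio]
      · rw [Finset.filter_true_of_mem fun k _ => by have := k.isLt; omega]
        simp; omega
    conv_rhs => rw [← hcard]
    have hle : ∀ k : Fin n, psum (conjComp ν) k + (conjComp ν) k ≤ n := fun k => by
      rw [← psum_succ]
      exact (psum_mono (conjComp ν) (show k.val + 1 ≤ n by omega)).trans (by rw [psum_self, hcs])
    have hmem : ∀ k : Fin n, k.val < ν i → psum (conjComp ν) k + (n - 1 - i.val) < psum (conjComp ν) k + (conjComp ν) k ∧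
        psum (conjComp ν) k + (n - 1 - i.val) < n := fun k hk => by
      have := (lt_apply_iff_of_monotone hmono k i).mp hk
      have := i.isLt
      have := hle k
      omega
    refine Finset.card_bij' (fun p _ => lab (conjComp ν) hcs p)
      (fun k hk => (⟨psum (conjComp ν) k + (n - 1 - i.val), (hmem k (by simpa using hk)).2⟩ : Fin n)) ?_ ?_ ?_ ?_
    · intro p hp
      simp only [Finset.mem_filter, Finset.mem_univ, true_and, L, Fin.ext_iff] at hp ⊢
      rw [lt_apply_iff_of_monotone hmono]
      have := hspec p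
      have := p.isLt
      omega
    · intro k hk
      simp only [Finset.mem_filter, Finset.mem_univ, true_and] at hk ⊢
      have hk' := hmem k hk
      have hl : lab (conjComp ν) hcs ⟨psum (conjComp ν) k + (n - 1 - i.val), hk'.2⟩ = k := (lab_eq_iff hcs _ _).mpr
        ⟨Nat.le_add_right _ _, by rw [psum_succ]; exact hk'.1⟩
      simp only [L, Fin.ext_iff, hl]
      have := i.isLt
      omega
    · intro p hp
      simp only [Finset.mem_filter, Finset.mem_univ, true_and, L, Fin.ext_iff] at hp ⊢
      have := hspec p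
      have := p.isLt
      omega
    · intro k hk
      simp only [Finset.mem_filter, Finset.mem_univ, true_and] at hk
      exact (lab_eq_iff hcs _ _).mpr ⟨Nat.le_add_right _ _, by rw [psum_succ]; exact (hmem k hk).1⟩
  obtain ⟨σ, hσ⟩ := exists_perm_lab hν L hfib
  refine ⟨σ, fun a a' h1 h2 => ?_⟩
  have hL : ∀ p, compLabel ν (σ.symm p) = (L p).val := fun p => by
    rw [← lab_val hν, ← hσ]; simp
  rw [hL, hL]
  simp only [L]
  have := hspec a
  have := hspec a'
  have h2v := congrArg Fin.val h2
  have := congrArg (psum (conjComp ν)) h2v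
  have := congrArg (conjComp ν) h2
  have := a'.isLt
  omega

theorem strictAntiOn_of_consecutive (f : Fin n → ℕ) (blk : Fin n → Fin n) (hblk : Monotone blk)
    (h : ∀ a a' : Fin n, a'.val = a.val + 1 → blk a = blk a' → f a' < f a) :
    ∀ a b : Fin n, a < b → blk a = blk b → f b < f a := by
  suffices ∀ d : ℕ, ∀ a b : Fin n, b.val = a.val + d + 1 → blk a = blk b → f b < f a from
    fun a b hab => this (b.val - a.val - 1) a b (by rw [Fin.lt_def] at hab; omega)
  intro d
  induction d with
  | zero => intro a b hab he; exact h a b (by omega) he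
  | succ d ih =>
    intro a b hab he
    let m : Fin n := ⟨b.val - 1, by omega⟩
    have h1 : blk a = blk m := le_antisymm (hblk (Fin.le_def.mpr (by simp only [m]; omega)))
      (he ▸ hblk (Fin.le_def.mpr (by simp only [m]; omega)))
    exact (h m b (by simp only [m]; omega) (h1 ▸ he)).trans (ih a m (by simp only [m]; omega) h1)

/-- The exponential weight of a composition. -/
def weight (μ : Fin n → ℕ) : ℕ := ∑ i, (n + 2) ^ μ i

/-- A labelling that is injective on the blocks conjugate to `ν` has weight at most that of `ν`. -/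
theorem weight_le_of_injective {ν μ : Fin n → ℕ} (hν : ∑ i, ν i = n) (L : Fin n → Fin n)
    (hL : ∀ j, (Finset.univ.filter fun p => L p = j).card = μ j)
    (hinj : ∀ a b, lab _ (sum_conjComp hν) a = lab _ (sum_conjComp hν) b → L a = L b → a = b) :
    weight μ ≤ weight ν := by
  set blk := lab _ (sum_conjComp hν) with hblk
  let S : Fin n → Finset (Fin n) := fun k => (Finset.univ.filter fun p => blk p = k).image L
  have hμ : ∀ j, μ j = (Finset.univ.filter fun k => j ∈ S k).card := by
    intro j
    rw [← hL j]
    refine Finset.card_bij (fun p _ => blk p) ?_ ?_ ?_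
    · intro p hp
      simp only [Finset.mem_filter, Finset.mem_univ, true_and, S, Finset.mem_image] at hp ⊢
      exact ⟨p, rfl, hp⟩
    · intro a ha b hb he
      simp only [Finset.mem_filter, Finset.mem_univ, true_and] at ha hb
      exact hinj a b he (ha.trans hb.symm)
    · intro k hk
      simp only [Finset.mem_filter, Finset.mem_univ, true_and, S, Finset.mem_image] at hk
      obtain ⟨p, hp, hp'⟩ := hk
      exact ⟨p, by simpa using hp', hp⟩
  have hS : ∀ k, (S k).card ≤ conjComp ν k := fun k =>
    Finset.card_image_le.trans_eq (card_lab_fibre (sum_conjComp hν) k)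
  have expand : ∀ (A : Fin n → Finset (Fin n)), (∑ j, (n + 1 + 1) ^ (A j).card) =
      ∑ T : Finset (Fin n), (n + 1) ^ T.card * (Finset.univ.filter fun j => T ⊆ A j).card := by
    intro A
    simp only [← Finset.sum_pow_mul_eq_add_pow, one_pow, mul_one]
    simp only [Finset.card_filter, Finset.mul_sum, mul_ite, mul_one, mul_zero]
    rw [Finset.sum_comm]
    refine Finset.sum_congr rfl fun j _ => ?_
    rw [← Finset.sum_filter]
    exact Finset.sum_congr (by ext T; simp) fun _ _ => rfl
  have hνi : ∀ i, ν i = (Finset.univ.filter fun k : Fin n => k.val < ν i).card := fun i => by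
    have hi : ν i ≤ n := hν ▸ Finset.single_le_sum (fun j _ => Nat.zero_le (ν j)) (Finset.mem_univ i)
    rcases Nat.lt_or_ge (ν i) n with h | h
    · rw [show (Finset.univ.filter fun k : Fin n => k.val < ν i) = Finset.Iio ⟨ν i, h⟩ by ext; simp [Fin.lt_def],
        Fin.card_Iio]
    · rw [Finset.filter_true_of_mem fun k _ => by have := k.isLt; omega]
      simp; omega
  have e1 : weight μ = ∑ j, (n + 1 + 1) ^ (Finset.univ.filter fun k => j ∈ S k).card :=
    Finset.sum_congr rfl fun j _ => by rw [← hμ]
  have e2 : weight ν = ∑ j, (n + 1 + 1) ^ (Finset.univ.filter fun k : Fin n => k.val < ν j).card :=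
    Finset.sum_congr rfl fun j _ => by rw [← hνi]
  rw [e1, e2, expand, expand]
  refine Finset.sum_le_sum fun T _ => Nat.mul_le_mul_left _ ?_
  rcases T.eq_empty_or_nonempty with rfl | hT
  · simp
  · have h2 : conjComp ν (T.max' hT) ≤
        (Finset.univ.filter fun j => T ⊆ Finset.univ.filter fun k : Fin n => k.val < ν j).card := by
      refine Finset.card_le_card fun j hj => ?_
      simp only [Finset.mem_filter, Finset.mem_univ, true_and, Finset.subset_iff] at hj ⊢
      exact fun k hk => lt_of_le_of_lt (Fin.le_def.mp (T.le_max' k hk)) hj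
    refine le_trans (Finset.card_le_card fun j hj => ?_) ((hS (T.max' hT)).trans h2)
    simp only [Finset.mem_filter, Finset.mem_univ, true_and, Finset.subset_iff] at hj
    exact hj (T.max'_mem hT)

/-- Every flag of a composition heavier than `ν` has a stabiliser on which the generic character is non-trivial. -/
theorem sum_generic_eq_zero [Fintype F] [Fintype ↥(unitriangularGL n F)] {ν μ : Fin n → ℕ}
    (hν : ∑ i, ν i = n) (hμ : ∑ i, μ i = n) (hw : weight ν < weight μ) {ψ : AddChar F ℂ} {c : F} (hc : ψ c ≠ 1) :
    ∑ u : ↥(unitriangularGL n F), genericChar ψ (lab _ (sum_conjComp hν)) u *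
      fixedPointCharacter (parabolicGL n F μ) (u : GL (Fin n) F) = 0 := by
  refine sum_mul_fixed_eq_zero _ fun x => ?_
  obtain ⟨g, rfl⟩ := QuotientGroup.mk_surjective x
  obtain ⟨v, hv, σ, b, hb, rfl⟩ := exists_bruhat g
  by_contra hcon
  have hdec : ∀ a a' : Fin n, a'.val = a.val + 1 →
      lab _ (sum_conjComp hν) a = lab _ (sum_conjComp hν) a' →
      compLabel μ (σ.symm a') < compLabel μ (σ.symm a) := fun a a' h1 h2 => by
    by_contra h3
    exact hcon (exists_stab_ne_one hc h1 h2 (not_lt.mp h3) hv (upper_le_parabolicGL μ hb))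
  have hanti := strictAntiOn_of_consecutive _ _ (lab_mono _) hdec
  refine absurd (weight_le_of_injective hν (fun p => lab μ hμ (σ.symm p)) (fun j => ?_) ?_) (not_le.mpr hw)
  · rw [← card_lab_fibre hμ j]
    exact Finset.card_equiv σ.symm (by simp)
  · intro a b h1 h2
    rw [Fin.ext_iff, lab_val, lab_val] at h2
    rcases lt_trichotomy a b with h | h | h
    · exact absurd h2 (hanti a b h h1).ne'
    · exact h
    · exact absurd h2 (hanti b a h h1.symm).ne

theorem sum_generic_pos [Fintype F] [Fintype ↥(unitriangularGL n F)] {ν : Fin n → ℕ} (hmono : Monotone ν)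
    (hν : ∑ i, ν i = n) (ψ : AddChar F ℂ) :
    ∃ k : ℕ, k ≠ 0 ∧ ∑ u : ↥(unitriangularGL n F), genericChar ψ (lab _ (sum_conjComp hν)) u *
      fixedPointCharacter (parabolicGL n F ν) (u : GL (Fin n) F) = k := by
  obtain ⟨σ, hσ⟩ := exists_descending_labels hmono hν
  exact sum_mul_fixed_pos _ _ fun u hu => genericChar_eq_one_of_stab hσ u hu

end Cfsg.Agent.GLFlags
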