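import Cfsg.Agent.GLFlags.Unipotent
import Cfsg.Agent.GLFlags.PermChar
import Cfsg.Agent.GLFlags.Cauchy

/-!
The alternating sums of flag characters are irreducible.
-/

set_option autoImplicit false

namespace Cfsg.Agent.GLFlags

open scoped Classical ComplexConjugate

universe u

variable {n : ℕ} {F : Type u} [Field F] [Fintype F]

/-- One term of the alternating sum. -/
noncomputable def unipotentTerm (n : ℕ) (F : Type u) [Field F] (ν : Fin n → ℕ) (κ : Equiv.Perm (Fin n)) :
    GL (Fin n) F → ℂ :=
  if ∀ i : Fin n, (κ i).val ≤ ν i + i.val then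
    ((Equiv.Perm.sign κ : ℤ) : ℂ) • fixedPointCharacter (parabolicGL n F fun i => ν i + i.val - (κ i).val)
  else 0

omit [Fintype F] in
theorem unipotentCharacterGL_eq (ν : Fin n → ℕ) :
    unipotentCharacterGL n F ν = ∑ κ : Equiv.Perm (Fin n), unipotentTerm n F ν κ := by
  funext g
  rw [Finset.sum_apply, unipotentCharacterGL]
  refine Finset.sum_congr rfl fun κ _ => ?_
  rw [unipotentTerm]
  split_ifs <;> simp

theorem isGeneralized_unipotentCharacterGL (ν : Fin n → ℕ) :
    IsGeneralizedCharacter (GL (Fin n) F) (unipotentCharacterGL n F ν) := by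
  rw [unipotentCharacterGL_eq]
  refine Finset.sum_induction _ _ (fun _ _ => Char.isGeneralized_add) Char.isGeneralized_zero fun κ _ => ?_
  rw [unipotentTerm]
  split_ifs
  · exact Char.isGeneralized_intCast_smul _ (Char.isGeneralized_of_isCharacter (isCharacter_fixedPointCharacter _))
  · exact Char.isGeneralized_zero

theorem classInner_unipotentCharacterGL {ν : Fin n → ℕ} (hmono : Monotone ν) (hν : ∑ i, ν i = n) :
    classInner (unipotentCharacterGL n F ν) (unipotentCharacterGL n F ν) = 1 := by
  have hinj : Function.Injective fun i => ν i + i.val :=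
    StrictMono.injective fun a b hab => by
      have := hmono hab.le
      rw [Fin.lt_def] at hab
      omega
  have hnorm := congrArg (Int.cast : ℤ → ℂ) (alternant_norm _ hinj)
  push_cast at hnorm
  rw [unipotentCharacterGL_eq, Char.classInner_sum_left]
  simp only [Char.classInner_sum_right]
  rw [← hnorm]
  refine Finset.sum_congr rfl fun κ _ => Finset.sum_congr rfl fun κ' _ => ?_
  by_cases h : ∀ i, (κ i).val ≤ ν i + i.val
  · by_cases h' : ∀ i, (κ' i).val ≤ ν i + i.val
    · rw [if_pos ⟨h, h'⟩, unipotentTerm, if_pos h, unipotentTerm, if_pos h', Char.classInner_smul_left,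
        Char.classInner_smul_right, classInner_fixedPointCharacter,
        card_orbits_parabolic (sum_shift hν κ h) (sum_shift hν κ' h'), map_intCast]
      ring
    · rw [if_neg (fun hh => h' hh.2), show unipotentTerm n F ν κ' = 0 from if_neg h']
      simp [classInner]
  · rw [if_neg (fun hh => h hh.1), show unipotentTerm n F ν κ = 0 from if_neg h]
    simp [classInner]

theorem isIrrCharacter_unipotentCharacterGL {ν : Fin n → ℕ} (hmono : Monotone ν) (hν : ∑ i, ν i = n) :
    IsIrrCharacter (GL (Fin n) F) (unipotentCharacterGL n F ν) := by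
  obtain ⟨χ, hχ | hχ⟩ := Char.IsGen.eq_pm_irr (isGeneralized_unipotentCharacterGL (F := F) ν)
    (classInner_unipotentCharacterGL hmono hν)
  · rw [hχ]; exact χ.2
  exfalso
  haveI := Fintype.ofFinite ↥(unitriangularGL n F)
  obtain ⟨ψ, hψ⟩ := AddChar.exists_apply_ne_zero.mpr (one_ne_zero : (1 : F) ≠ 0)
  have h1 := sum_generic_unipotent hν hν hmono hmono le_rfl hψ
  obtain ⟨k, hk, hk'⟩ := sum_generic_pos hmono hν ψ
  rw [if_pos rfl, hk', hχ] at h1
  have hres : IsCharacter ↥(unitriangularGL n F) (fun u => (χ : GL (Fin n) F → ℂ) (u : GL (Fin n) F)) :=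
    Char.isCharacter_comp (unitriangularGL n F).subtype (Char.IsIrr.isCharacter χ.2)
  set θ := genericChar ψ (lab _ (sum_conjComp hν)) with hθ
  have hlin : IsCharacter ↥(unitriangularGL n F) (fun u => conj (θ u)) := by
    simpa using Char.isCharacter_hom (((starRingEnd ℂ).toMonoidHom.comp θ).toHomUnits)
  obtain ⟨m, hm⟩ := Char.classInner_isCharacter_eq_natCast hres hlin
  rw [classInner] at hm
  simp only [Complex.conj_conj] at hm
  have hU : (Nat.card ↥(unitriangularGL n F) : ℂ) ≠ 0 := Nat.cast_ne_zero.2 Nat.card_pos.ne'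
  rw [inv_mul_eq_iff_eq_mul₀ hU] at hm
  simp only [Pi.neg_apply, mul_neg, Finset.sum_neg_distrib] at h1
  rw [Finset.sum_congr rfl (fun u _ => mul_comm (θ u) _), hm, ← Nat.cast_mul, neg_eq_iff_add_eq_zero, ← Nat.cast_add,
    Nat.cast_eq_zero] at h1
  omega

end Cfsg.Agent.GLFlags
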